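import Mathlib
import Cfsg.Agent.H93.CosetCox

/-!
Suborbit certificates for large orbits: a depth and a predecessor for every node of the orbit.
-/

set_option autoImplicit false

namespace H93
namespace Coset

open scoped Pointwise

/-- an entry `O c` is depth · 2^28 + predecessor · 16 + word -/
noncomputable def otreeOK (D : Data) (m q : ℕ) (O : ℕ → ℕ) (lo len : ℕ) : Bool :=
  allRange lo len fun c => !(Nat.testBit m c) || Nat.beq c q ||
    (force (O c) fun e => force (e / 16 % 16777216) fun p =>
      Nat.testBit m p && Nat.blt (O p / 268435456) (e / 268435456) && Nat.blt p D.n &&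
        match D.words[D.nrel + e % 16]? with
        | none => false
        | some w => walk D.T w p fun x => Nat.beq x c)

noncomputable def oclosedOK (D : Data) (m lo len : ℕ) : Bool :=
  allRange lo len fun c => !(Nat.testBit m c) ||
    (D.words.drop D.nrel).all fun w => walk D.T w c fun e => Nat.testBit m e

/-- the number of set bits among the first `len` bits from `lo` on -/
noncomputable def bitCount (m lo len : ℕ) : ℕ :=
  Nat.rec (motive := fun _ => ℕ) 0 (fun k ih => bif Nat.testBit m (lo + k) then ih + 1 else ih) len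

theorem bitCount_eq (m lo len : ℕ) :
    bitCount m lo len = ((Finset.Ico lo (lo + len)).filter fun i => Nat.testBit m i = true).card := by
  induction len with
  | zero => simp [bitCount]
  | succ k ih =>
    show (bif Nat.testBit m (lo + k) then bitCount m lo k + 1 else bitCount m lo k) = _
    rw [← Nat.add_assoc, ← Finset.insert_Ico_right_eq_Ico_add_one (Nat.le_add_right lo k),
      Finset.filter_insert]
    cases h : Nat.testBit m (lo + k)
    · simp [ih]
    · rw [if_pos rfl, Finset.card_insert_of_notMem (by simp)]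
      simp [ih]

variable {D : Data} {G : Type*} [Group G] {gen : ℕ → G} {H : Subgroup G}

theorem Model.orbit_eq_tree (M : Model D gen H) {m q k : ℕ} {O : ℕ → ℕ} (hq : q < D.n)
    (hmq : Nat.testBit m q = true) (htree : otreeOK D m q O 0 D.n = true)
    (hclosed : oclosedOK D m 0 D.n = true) (hcount : bitCount m 0 D.n = k) :
    MulAction.orbit H (cosetOf D gen H ⟨q, hq⟩) = cosetOf D gen H '' {c | Nat.testBit m c = true} ∧
    (MulAction.orbit H (cosetOf D gen H ⟨q, hq⟩)).ncard = k := by
  have hlet : ∀ w ∈ D.words.drop D.nrel, ∀ g ∈ w, g < D.ng :=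
    fun w hw => M.tables.mem_letters w (List.mem_of_mem_drop hw)
  have hwH : ∀ w ∈ D.words.drop D.nrel, ev gen w ∈ H := fun w hw => by
    rw [M.subgroup]; exact Subgroup.subset_closure ⟨w, hw, rfl⟩
  have hreach : ∀ d c (hc : c < D.n), Nat.testBit m c = true → O c / 268435456 = d →
      cosetOf D gen H ⟨c, hc⟩ ∈ MulAction.orbit H (cosetOf D gen H ⟨q, hq⟩) := by
    intro d
    induction d using Nat.strong_induction_on with
    | _ d ih =>
      intro c hc hm hd
      by_cases hcq : c = q
      · subst hcq; exact MulAction.mem_orbit_self _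
      have h := allRange_spec htree c (Nat.zero_le _) (by omega)
      have hbeq : Nat.beq c q = false := by simpa [Nat.beq_eq, ← Bool.not_eq_true] using hcq
      simp only [hm, Bool.not_true, Bool.false_or, hbeq, force_eq, Bool.and_eq_true, Data.blt_iff] at h
      obtain ⟨⟨⟨hp, hdep⟩, hpn⟩, hm'⟩ := h
      split at hm'
      · exact absurd hm' (by simp)
      rename_i w hw
      simp only [walk_eq, Nat.beq_eq] at hm'
      have hw' : w ∈ D.words.drop D.nrel :=
        List.mem_of_getElem? (i := O c % 16) (by rw [List.getElem?_drop]; exact hw)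
      obtain ⟨a, ha⟩ := ih _ (hd ▸ hdep) _ hpn hp rfl
      refine ⟨⟨ev gen w, hwH w hw'⟩ * a, ?_⟩
      show (⟨ev gen w, hwH w hw'⟩ * a) • cosetOf D gen H ⟨q, hq⟩ = _
      rw [mul_smul, show a • cosetOf D gen H ⟨q, hq⟩ = _ from ha]
      show ev gen w • cosetOf D gen H ⟨O c / 16 % 16777216, hpn⟩ = _
      rw [M.ev_smul_cosetOf w (hlet w hw') ⟨_, hpn⟩]
      exact congrArg _ (Fin.ext hm')
  have heq : MulAction.orbit H (cosetOf D gen H ⟨q, hq⟩) =
      cosetOf D gen H '' {c | Nat.testBit m c = true} := by
    refine Set.Subset.antisymm ?_ ?_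
    · rintro _ ⟨⟨a, ha⟩, rfl⟩
      set S := cosetOf D gen H '' {c | Nat.testBit m c = true} with hS
      suffices key : a ∈ MulAction.stabilizer G S by
        have h1 : a • cosetOf D gen H ⟨q, hq⟩ ∈ a • S := Set.smul_mem_smul_set ⟨⟨q, hq⟩, hmq, rfl⟩
        rwa [key] at h1
      refine (show H ≤ MulAction.stabilizer G S from ?_) ha
      refine le_of_eq_of_le M.subgroup ((Subgroup.closure_le _).mpr ?_)
      rintro _ ⟨w, hw, rfl⟩
      have hsub : ev gen w • S ⊆ S := by
        rintro _ ⟨_, ⟨c, hc, rfl⟩, rfl⟩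
        refine ⟨⟨pathEnd D.T w c, pathEnd_lt M.tables w (hlet w hw) c.2⟩, ?_,
          (M.ev_smul_cosetOf w (hlet w hw) c).symm⟩
        have h1 := allRange_spec hclosed c.1 (Nat.zero_le _) (by omega)
        simp only [Set.mem_ofPred_eq] at hc
        simp only [hc, Bool.not_true, Bool.false_or, List.all_eq_true, walk_eq] at h1
        exact h1 w hw
      have hfin : Finite (G ⧸ H) := Finite.of_equiv _ (Equiv.ofBijective _ M.bijective)
      refine Set.eq_of_subset_of_ncard_le hsub ?_ (Set.toFinite _)
      exact le_of_eq (Set.ncard_image_of_injective _ (MulAction.injective _)).symm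
    · rintro _ ⟨c, hc, rfl⟩
      exact hreach _ c c.2 hc rfl
  refine ⟨heq, ?_⟩
  rw [heq, Set.ncard_image_of_injective _ M.bijective.injective,
    ← Set.ncard_image_of_injective _ Fin.val_injective, ← hcount, bitCount_eq,
    ← Set.ncard_coe_finset]
  congr 1
  ext i
  simp only [Set.mem_image, Set.mem_ofPred_eq, Finset.coe_filter, Finset.mem_Ico]
  exact ⟨fun ⟨c, hc, e⟩ => e ▸ ⟨⟨Nat.zero_le _, by omega⟩, hc⟩, fun ⟨⟨_, h2⟩, h⟩ => ⟨⟨i, by omega⟩, h, rfl⟩⟩

variable {α : Type} [DecidableEq α] {edges : List (α × ℕ × α)}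
  {extra : List (FreeGroup α)} {gl : List α} {ix : α → ℕ} {sub : List (FreeGroup α)}

theorem CoxFit.orbit_tree (F : CoxFit D edges extra gl ix sub) {m q k : ℕ} {O : ℕ → ℕ} (hq : q < D.n)
    (hmq : Nat.testBit m q = true) (htree : otreeOK D m q O 0 D.n = true)
    (hclosed : oclosedOK D m 0 D.n = true) (hcount : bitCount m 0 D.n = k) :
    ∃ y : (Cfsg.Spor.CoxPresented α edges extra) ⧸ ((Subgroup.closure {r | r ∈ sub}).map
        (PresentedGroup.mk (Cfsg.Spor.coxRelators edges ∪ {r | r ∈ extra}))),
      (MulAction.orbit ((Subgroup.closure {r | r ∈ sub}).map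
        (PresentedGroup.mk (Cfsg.Spor.coxRelators edges ∪ {r | r ∈ extra}))) y).ncard = k :=
  ⟨_, (F.model.orbit_eq_tree hq hmq htree hclosed hcount).2⟩

end Coset
end H93
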