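import Mathlib
import Cfsg.Agent.H93.Fi23Table.P0
import Cfsg.Agent.H93.Fi23Table.P1
import Cfsg.Agent.H93.Fi23Table.P2
import Cfsg.Agent.H93.Fi23Table.P3
import Cfsg.Agent.H93.Fi23Table.P4
import Cfsg.Agent.H93.Fi23Table.P5
import Cfsg.Agent.H93.Fi23Table.P6
import Cfsg.Agent.H93.Fi23Table.P7
import Cfsg.Agent.H93.Fi23Table.P8
import Cfsg.Agent.H93.Fi23Table.P9
import Cfsg.Agent.H93.Fi23Table.P10
import Cfsg.Agent.H93.Fi23Table.P11
import Cfsg.Agent.H93.Fi23Table.P12
import Cfsg.Agent.H93.Fi23Table.P13
import Cfsg.Agent.H93.Fi23Table.P14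
import Cfsg.Agent.H93.Fi23Table.P15
import Cfsg.Agent.H93.Fi23Table.P16
import Cfsg.Agent.H93.Fi23Table.P17
import Cfsg.Agent.H93.Fi23Table.P18
import Cfsg.Agent.H93.Fi23Table.P19
import Cfsg.Agent.H93.Fi23Table.P20
import Cfsg.Agent.H93.Fi23Table.P21
import Cfsg.Agent.H93.Fi23Table.P22
import Cfsg.Agent.H93.Fi23Table.P23

/-!
A checked coset table (generated data).
-/

set_option autoImplicit false
set_option maxRecDepth 100000
set_option linter.all false
set_option Elab.async false

namespace H93
namespace Fi23Table

open Coset

noncomputable section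

attribute [local irreducible] allRange Data.edgeOK

theorem edge0 : data.edgesOK 0 0 31671 = true :=
  (allRange_glue (allRange_glue (allRange_glue (allRange_glue (allRange_glue (allRange_glue (allRange_glue (allRange_glue (allRange_glue (allRange_glue (allRange_glue (allRange_glue (allRange_glue (allRange_glue (allRange_glue (allRange_glue (allRange_glue (allRange_glue (allRange_glue (allRange_glue (allRange_glue (allRange_glue (allRange_glue (allRange_glue (allRange_glue (allRange_glue (allRange_glue (allRange_glue (allRange_glue (allRange_glue (allRange_glue (allRange_glue (allRange_glue (allRange_glue (allRange_glue (allRange_glue (allRange_glue (allRange_glue (allRange_glue (allRange_glue (allRange_glue (allRange_glue (allRange_glue (allRange_glue edge0_0 edge0_1) edge0_2) edge0_3) edge0_4) edge0_5) edge0_6) edge0_7) edge0_8) edge0_9) edge0_10) edge0_11) edge0_12) edge0_13) edge0_14) edge0_15) edge0_16) edge0_17) edge0_18) edge0_19) edge0_20) edge0_21) edge0_22) edge0_23) edge0_24) edge0_25) edge0_26) edge0_27) edge0_28) edge0_29) edge0_30) edge0_31) edge0_32)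 edge0_33) edge0_34) edge0_35) edge0_36) edge0_37) edge0_38) edge0_39) edge0_40) edge0_41) edge0_42) edge0_43) edge0_44)

theorem edge1 : data.edgesOK 1 0 31671 = true :=
  (allRange_glue (allRange_glue (allRange_glue (allRange_glue (allRange_glue (allRange_glue (allRange_glue (allRange_glue (allRange_glue (allRange_glue (allRange_glue (allRange_glue (allRange_glue (allRange_glue (allRange_glue (allRange_glue (allRange_glue (allRange_glue (allRange_glue (allRange_glue (allRange_glue (allRange_glue (allRange_glue (allRange_glue (allRange_glue (allRange_glue (allRange_glue (allRange_glue (allRange_glue (allRange_glue (allRange_glue (allRange_glue (allRange_glue (allRange_glue (allRange_glue (allRange_glue (allRange_glue (allRange_glue (allRange_glue (allRange_glue (allRange_glue (allRange_glue (allRange_glue (allRange_glue edge1_0 edge1_1) edge1_2) edge1_3) edge1_4) edge1_5) edge1_6) edge1_7) edge1_8) edge1_9) edge1_10) edge1_11) edge1_12) edge1_13) edge1_14) edge1_15) edge1_16) edge1_17) edge1_18) edge1_19) edge1_20) edge1_21) edge1_22) edge1_23) edge1_24) edge1_25)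 edge1_26) edge1_27) edge1_28) edge1_29) edge1_30) edge1_31) edge1_32) edge1_33) edge1_34) edge1_35) edge1_36) edge1_37) edge1_38) edge1_39) edge1_40) edge1_41) edge1_42) edge1_43) edge1_44)

theorem edge2 : data.edgesOK 2 0 31671 = true :=
  (allRange_glue (allRange_glue (allRange_glue (allRange_glue (allRange_glue (allRange_glue (allRange_glue (allRange_glue (allRange_glue (allRange_glue (allRange_glue (allRange_glue (allRange_glue (allRange_glue (allRange_glue (allRange_glue (allRange_glue (allRange_glue (allRange_glue (allRange_glue (allRange_glue (allRange_glue (allRange_glue (allRange_glue (allRange_glue (allRange_glue (allRange_glue (allRange_glue (allRange_glue (allRange_glue (allRange_glue (allRange_glue (allRange_glue (allRange_glue (allRange_glue (allRange_glue (allRange_glue (allRange_glue (allRange_glue (allRange_glue (allRange_glue (allRange_glue (allRange_glue (allRange_glue edge2_0 edge2_1) edge2_2) edge2_3) edge2_4) edge2_5) edge2_6) edge2_7) edge2_8) edge2_9) edge2_10) edge2_11) edge2_12) edge2_13) edge2_14) edge2_15) edge2_16) edge2_17) edge2_18)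 edge2_19) edge2_20) edge2_21) edge2_22) edge2_23) edge2_24) edge2_25) edge2_26) edge2_27) edge2_28) edge2_29) edge2_30) edge2_31) edge2_32) edge2_33) edge2_34) edge2_35) edge2_36) edge2_37) edge2_38) edge2_39) edge2_40) edge2_41) edge2_42) edge2_43) edge2_44)

theorem edge3 : data.edgesOK 3 0 31671 = true :=
  (allRange_glue (allRange_glue (allRange_glue (allRange_glue (allRange_glue (allRange_glue (allRange_glue (allRange_glue (allRange_glue (allRange_glue (allRange_glue (allRange_glue (allRange_glue (allRange_glue (allRange_glue (allRange_glue (allRange_glue (allRange_glue (allRange_glue (allRange_glue (allRange_glue (allRange_glue (allRange_glue (allRange_glue (allRange_glue (allRange_glue (allRange_glue (allRange_glue (allRange_glue (allRange_glue (allRange_glue (allRange_glue (allRange_glue (allRange_glue (allRange_glue (allRange_glue (allRange_glue (allRange_glue (allRange_glue (allRange_glue (allRange_glue (allRange_glue (allRange_glue (allRange_glue edge3_0 edge3_1) edge3_2) edge3_3) edge3_4) edge3_5) edge3_6) edge3_7) edge3_8) edge3_9) edge3_10) edge3_11)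 edge3_12) edge3_13) edge3_14) edge3_15) edge3_16) edge3_17) edge3_18) edge3_19) edge3_20) edge3_21) edge3_22) edge3_23) edge3_24) edge3_25) edge3_26) edge3_27) edge3_28) edge3_29) edge3_30) edge3_31) edge3_32) edge3_33) edge3_34) edge3_35) edge3_36) edge3_37) edge3_38) edge3_39) edge3_40) edge3_41) edge3_42) edge3_43) edge3_44)

theorem edge4 : data.edgesOK 4 0 31671 = true :=
  (allRange_glue (allRange_glue (allRange_glue (allRange_glue (allRange_glue (allRange_glue (allRange_glue (allRange_glue (allRange_glue (allRange_glue (allRange_glue (allRange_glue (allRange_glue (allRange_glue (allRange_glue (allRange_glue (allRange_glue (allRange_glue (allRange_glue (allRange_glue (allRange_glue (allRange_glue (allRange_glue (allRange_glue (allRange_glue (allRange_glue (allRange_glue (allRange_glue (allRange_glue (allRange_glue (allRange_glue (allRange_glue (allRange_glue (allRange_glue (allRange_glue (allRange_glue (allRange_glue (allRange_glue (allRange_glue (allRange_glue (allRange_glue (allRange_glue (allRange_glue (allRange_glue edge4_0 edge4_1) edge4_2) edge4_3) edge4_4)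 edge4_5) edge4_6) edge4_7) edge4_8) edge4_9) edge4_10) edge4_11) edge4_12) edge4_13) edge4_14) edge4_15) edge4_16) edge4_17) edge4_18) edge4_19) edge4_20) edge4_21) edge4_22) edge4_23) edge4_24) edge4_25) edge4_26) edge4_27) edge4_28) edge4_29) edge4_30) edge4_31) edge4_32) edge4_33) edge4_34) edge4_35) edge4_36) edge4_37) edge4_38) edge4_39) edge4_40) edge4_41) edge4_42) edge4_43) edge4_44)

theorem edge5 : data.edgesOK 5 0 31671 = true :=
  (allRange_glue (allRange_glue (allRange_glue (allRange_glue (allRange_glue (allRange_glue (allRange_glue (allRange_glue (allRange_glue (allRange_glue (allRange_glue (allRange_glue (allRange_glue (allRange_glue (allRange_glue (allRange_glue (allRange_glue (allRange_glue (allRange_glue (allRange_glue (allRange_glue (allRange_glue (allRange_glue (allRange_glue (allRange_glue (allRange_glue (allRange_glue (allRange_glue (allRange_glue (allRange_glue (allRange_glue (allRange_glue (allRange_glue (allRange_glue (allRange_glue (allRange_glue (allRange_glue (allRange_glue (allRange_glue (allRange_glue (allRange_glue (allRange_glue (allRange_glue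 (allRange_glue edge5_0 edge5_1) edge5_2) edge5_3) edge5_4) edge5_5) edge5_6) edge5_7) edge5_8) edge5_9) edge5_10) edge5_11) edge5_12) edge5_13) edge5_14) edge5_15) edge5_16) edge5_17) edge5_18) edge5_19) edge5_20) edge5_21) edge5_22) edge5_23) edge5_24) edge5_25) edge5_26) edge5_27) edge5_28) edge5_29) edge5_30) edge5_31) edge5_32) edge5_33) edge5_34) edge5_35) edge5_36) edge5_37) edge5_38) edge5_39) edge5_40) edge5_41) edge5_42) edge5_43) edge5_44)

theorem edge6 : data.edgesOK 6 0 31671 = true :=
  (allRange_glue (allRange_glue (allRange_glue (allRange_glue (allRange_glue (allRange_glue (allRange_glue (allRange_glue (allRange_glue (allRange_glue (allRange_glue (allRange_glue (allRange_glue (allRange_glue (allRange_glue (allRange_glue (allRange_glue (allRange_glue (allRange_glue (allRange_glue (allRange_glue (allRange_glue (allRange_glue (allRange_glue (allRange_glue (allRange_glue (allRange_glue (allRange_glue (allRange_glue (allRange_glue (allRange_glue (allRange_glue (allRange_glue (allRange_glue (allRange_glue (allRange_glue (allRange_glue (allRange_glue (allRange_glue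 (allRange_glue (allRange_glue (allRange_glue (allRange_glue (allRange_glue edge6_0 edge6_1) edge6_2) edge6_3) edge6_4) edge6_5) edge6_6) edge6_7) edge6_8) edge6_9) edge6_10) edge6_11) edge6_12) edge6_13) edge6_14) edge6_15) edge6_16) edge6_17) edge6_18) edge6_19) edge6_20) edge6_21) edge6_22) edge6_23) edge6_24) edge6_25) edge6_26) edge6_27) edge6_28) edge6_29) edge6_30) edge6_31) edge6_32) edge6_33) edge6_34) edge6_35) edge6_36) edge6_37) edge6_38) edge6_39) edge6_40) edge6_41) edge6_42) edge6_43) edge6_44)

theorem edge7 : data.edgesOK 7 0 31671 = true :=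
  (allRange_glue (allRange_glue (allRange_glue (allRange_glue (allRange_glue (allRange_glue (allRange_glue (allRange_glue (allRange_glue (allRange_glue (allRange_glue (allRange_glue (allRange_glue (allRange_glue (allRange_glue (allRange_glue (allRange_glue (allRange_glue (allRange_glue (allRange_glue (allRange_glue (allRange_glue (allRange_glue (allRange_glue (allRange_glue (allRange_glue (allRange_glue (allRange_glue (allRange_glue (allRange_glue (allRange_glue (allRange_glue (allRange_glue (allRange_glue (allRange_glue (allRange_glue (allRange_glue (allRange_glue (allRange_glue (allRange_glue (allRange_glue (allRange_glue (allRange_glue (allRange_glue edge7_0 edge7_1) edge7_2) edge7_3) edge7_4) edge7_5) edge7_6) edge7_7) edge7_8) edge7_9) edge7_10) edge7_11) edge7_12) edge7_13) edge7_14) edge7_15) edge7_16) edge7_17) edge7_18) edge7_19) edge7_20) edge7_21) edge7_22) edge7_23) edge7_24) edge7_25) edge7_26) edge7_27) edge7_28) edge7_29) edge7_30) edge7_31) edge7_32) edge7_33) edge7_34) edge7_35) edge7_36) edge7_37) edge7_38) edge7_39) edge7_40) edge7_41) edge7_42)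 edge7_43) edge7_44)

theorem edge8 : data.edgesOK 8 0 31671 = true :=
  (allRange_glue (allRange_glue (allRange_glue (allRange_glue (allRange_glue (allRange_glue (allRange_glue (allRange_glue (allRange_glue (allRange_glue (allRange_glue (allRange_glue (allRange_glue (allRange_glue (allRange_glue (allRange_glue (allRange_glue (allRange_glue (allRange_glue (allRange_glue (allRange_glue (allRange_glue (allRange_glue (allRange_glue (allRange_glue (allRange_glue (allRange_glue (allRange_glue (allRange_glue (allRange_glue (allRange_glue (allRange_glue (allRange_glue (allRange_glue (allRange_glue (allRange_glue (allRange_glue (allRange_glue (allRange_glue (allRange_glue (allRange_glue (allRange_glue (allRange_glue (allRange_glue edge8_0 edge8_1) edge8_2) edge8_3) edge8_4) edge8_5) edge8_6) edge8_7) edge8_8) edge8_9) edge8_10) edge8_11) edge8_12) edge8_13) edge8_14) edge8_15) edge8_16) edge8_17) edge8_18) edge8_19) edge8_20) edge8_21) edge8_22) edge8_23) edge8_24) edge8_25) edge8_26) edge8_27) edge8_28) edge8_29) edge8_30) edge8_31) edge8_32) edge8_33) edge8_34) edge8_35)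 edge8_36) edge8_37) edge8_38) edge8_39) edge8_40) edge8_41) edge8_42) edge8_43) edge8_44)

theorem edge9 : data.edgesOK 9 0 31671 = true :=
  (allRange_glue (allRange_glue (allRange_glue (allRange_glue (allRange_glue (allRange_glue (allRange_glue (allRange_glue (allRange_glue (allRange_glue (allRange_glue (allRange_glue (allRange_glue (allRange_glue (allRange_glue (allRange_glue (allRange_glue (allRange_glue (allRange_glue (allRange_glue (allRange_glue (allRange_glue (allRange_glue (allRange_glue (allRange_glue (allRange_glue (allRange_glue (allRange_glue (allRange_glue (allRange_glue (allRange_glue (allRange_glue (allRange_glue (allRange_glue (allRange_glue (allRange_glue (allRange_glue (allRange_glue (allRange_glue (allRange_glue (allRange_glue (allRange_glue (allRange_glue (allRange_glue edge9_0 edge9_1) edge9_2) edge9_3) edge9_4) edge9_5) edge9_6) edge9_7) edge9_8) edge9_9) edge9_10) edge9_11) edge9_12) edge9_13) edge9_14) edge9_15) edge9_16) edge9_17) edge9_18) edge9_19) edge9_20) edge9_21) edge9_22) edge9_23) edge9_24) edge9_25) edge9_26) edge9_27) edge9_28)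 edge9_29) edge9_30) edge9_31) edge9_32) edge9_33) edge9_34) edge9_35) edge9_36) edge9_37) edge9_38) edge9_39) edge9_40) edge9_41) edge9_42) edge9_43) edge9_44)

theorem treeRow : treeOK data 0 31671 = true :=
  (allRange_glue (allRange_glue (allRange_glue (allRange_glue (allRange_glue (allRange_glue (allRange_glue treeRow_0 treeRow_1) treeRow_2) treeRow_3) treeRow_4) treeRow_5) treeRow_6) treeRow_7)

theorem rel0 : data.relOK [0,0] 0 31671 = true :=
  (allRange_glue (allRange_glue (allRange_glue (allRange_glue (allRange_glue rel0_0 rel0_1) rel0_2) rel0_3) rel0_4) rel0_5)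

theorem rel1 : data.relOK [1,0,1,0,1,0] 0 31671 = true :=
  (allRange_glue (allRange_glue (allRange_glue (allRange_glue (allRange_glue (allRange_glue (allRange_glue (allRange_glue (allRange_glue (allRange_glue (allRange_glue (allRange_glue (allRange_glue (allRange_glue (allRange_glue rel1_0 rel1_1) rel1_2) rel1_3) rel1_4) rel1_5) rel1_6) rel1_7) rel1_8) rel1_9) rel1_10) rel1_11) rel1_12) rel1_13) rel1_14) rel1_15)

theorem rel2 : data.relOK [2,0,2,0] 0 31671 = true :=
  (allRange_glue (allRange_glue (allRange_glue (allRange_glue (allRange_glue (allRange_glue (allRange_glue (allRange_glue (allRange_glue (allRange_glue rel2_0 rel2_1) rel2_2) rel2_3) rel2_4) rel2_5) rel2_6) rel2_7) rel2_8) rel2_9) rel2_10)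

theorem rel3 : data.relOK [3,0,3,0] 0 31671 = true :=
  (allRange_glue (allRange_glue (allRange_glue (allRange_glue (allRange_glue (allRange_glue (allRange_glue (allRange_glue (allRange_glue (allRange_glue rel3_0 rel3_1) rel3_2) rel3_3) rel3_4) rel3_5) rel3_6) rel3_7) rel3_8) rel3_9) rel3_10)

theorem rel4 : data.relOK [4,0,4,0] 0 31671 = true :=
  (allRange_glue (allRange_glue (allRange_glue (allRange_glue (allRange_glue (allRange_glue (allRange_glue (allRange_glue (allRange_glue (allRange_glue rel4_0 rel4_1) rel4_2) rel4_3) rel4_4) rel4_5) rel4_6) rel4_7) rel4_8) rel4_9) rel4_10)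

theorem rel5 : data.relOK [5,0,5,0] 0 31671 = true :=
  (allRange_glue (allRange_glue (allRange_glue (allRange_glue (allRange_glue (allRange_glue (allRange_glue (allRange_glue (allRange_glue (allRange_glue rel5_0 rel5_1) rel5_2) rel5_3) rel5_4) rel5_5) rel5_6) rel5_7) rel5_8) rel5_9) rel5_10)

theorem rel6 : data.relOK [6,0,6,0] 0 31671 = true :=
  (allRange_glue (allRange_glue (allRange_glue (allRange_glue (allRange_glue (allRange_glue (allRange_glue (allRange_glue (allRange_glue (allRange_glue rel6_0 rel6_1) rel6_2) rel6_3) rel6_4) rel6_5) rel6_6) rel6_7) rel6_8) rel6_9) rel6_10)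

theorem rel7 : data.relOK [7,0,7,0] 0 31671 = true :=
  (allRange_glue (allRange_glue (allRange_glue (allRange_glue (allRange_glue (allRange_glue (allRange_glue (allRange_glue (allRange_glue (allRange_glue rel7_0 rel7_1) rel7_2) rel7_3) rel7_4) rel7_5) rel7_6) rel7_7) rel7_8) rel7_9) rel7_10)

theorem rel8 : data.relOK [8,0,8,0] 0 31671 = true :=
  (allRange_glue (allRange_glue (allRange_glue (allRange_glue (allRange_glue (allRange_glue (allRange_glue (allRange_glue (allRange_glue (allRange_glue rel8_0 rel8_1) rel8_2) rel8_3) rel8_4) rel8_5) rel8_6) rel8_7) rel8_8) rel8_9) rel8_10)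

theorem rel9 : data.relOK [9,0,9,0] 0 31671 = true :=
  (allRange_glue (allRange_glue (allRange_glue (allRange_glue (allRange_glue (allRange_glue (allRange_glue (allRange_glue (allRange_glue (allRange_glue rel9_0 rel9_1) rel9_2) rel9_3) rel9_4) rel9_5) rel9_6) rel9_7) rel9_8) rel9_9) rel9_10)

theorem rel10 : data.relOK [1,1] 0 31671 = true :=
  (allRange_glue (allRange_glue (allRange_glue (allRange_glue (allRange_glue rel10_0 rel10_1) rel10_2) rel10_3) rel10_4) rel10_5)

theorem rel11 : data.relOK [2,1,2,1,2,1] 0 31671 = true :=
  (allRange_glue (allRange_glue (allRange_glue (allRange_glue (allRange_glue (allRange_glue (allRange_glue (allRange_glue (allRange_glue (allRange_glue (allRange_glue (allRange_glue (allRange_glue (allRange_glue (allRange_glue rel11_0 rel11_1) rel11_2) rel11_3) rel11_4) rel11_5) rel11_6) rel11_7) rel11_8) rel11_9) rel11_10) rel11_11) rel11_12) rel11_13) rel11_14) rel11_15)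

theorem rel12 : data.relOK [3,1,3,1] 0 31671 = true :=
  (allRange_glue (allRange_glue (allRange_glue (allRange_glue (allRange_glue (allRange_glue (allRange_glue (allRange_glue (allRange_glue (allRange_glue rel12_0 rel12_1) rel12_2) rel12_3) rel12_4) rel12_5) rel12_6) rel12_7) rel12_8) rel12_9) rel12_10)

theorem rel13 : data.relOK [4,1,4,1] 0 31671 = true :=
  (allRange_glue (allRange_glue (allRange_glue (allRange_glue (allRange_glue (allRange_glue (allRange_glue (allRange_glue (allRange_glue (allRange_glue rel13_0 rel13_1) rel13_2) rel13_3) rel13_4) rel13_5) rel13_6) rel13_7) rel13_8) rel13_9) rel13_10)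

theorem rel14 : data.relOK [5,1,5,1] 0 31671 = true :=
  (allRange_glue (allRange_glue (allRange_glue (allRange_glue (allRange_glue (allRange_glue (allRange_glue (allRange_glue (allRange_glue (allRange_glue rel14_0 rel14_1) rel14_2) rel14_3) rel14_4) rel14_5) rel14_6) rel14_7) rel14_8) rel14_9) rel14_10)

theorem rel15 : data.relOK [6,1,6,1] 0 31671 = true :=
  (allRange_glue (allRange_glue (allRange_glue (allRange_glue (allRange_glue (allRange_glue (allRange_glue (allRange_glue (allRange_glue (allRange_glue rel15_0 rel15_1) rel15_2) rel15_3) rel15_4) rel15_5) rel15_6) rel15_7) rel15_8) rel15_9) rel15_10)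

theorem rel16 : data.relOK [7,1,7,1] 0 31671 = true :=
  (allRange_glue (allRange_glue (allRange_glue (allRange_glue (allRange_glue (allRange_glue (allRange_glue (allRange_glue (allRange_glue (allRange_glue rel16_0 rel16_1) rel16_2) rel16_3) rel16_4) rel16_5) rel16_6) rel16_7) rel16_8) rel16_9) rel16_10)

theorem rel17 : data.relOK [8,1,8,1] 0 31671 = true :=
  (allRange_glue (allRange_glue (allRange_glue (allRange_glue (allRange_glue (allRange_glue (allRange_glue (allRange_glue (allRange_glue (allRange_glue rel17_0 rel17_1) rel17_2) rel17_3) rel17_4) rel17_5) rel17_6) rel17_7) rel17_8) rel17_9) rel17_10)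

theorem rel18 : data.relOK [9,1,9,1] 0 31671 = true :=
  (allRange_glue (allRange_glue (allRange_glue (allRange_glue (allRange_glue (allRange_glue (allRange_glue (allRange_glue (allRange_glue (allRange_glue rel18_0 rel18_1) rel18_2) rel18_3) rel18_4) rel18_5) rel18_6) rel18_7) rel18_8) rel18_9) rel18_10)

theorem rel19 : data.relOK [2,2] 0 31671 = true :=
  (allRange_glue (allRange_glue (allRange_glue (allRange_glue (allRange_glue rel19_0 rel19_1) rel19_2) rel19_3) rel19_4) rel19_5)

theorem rel20 : data.relOK [3,2,3,2,3,2] 0 31671 = true :=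
  (allRange_glue (allRange_glue (allRange_glue (allRange_glue (allRange_glue (allRange_glue (allRange_glue (allRange_glue (allRange_glue (allRange_glue (allRange_glue (allRange_glue (allRange_glue (allRange_glue (allRange_glue rel20_0 rel20_1) rel20_2) rel20_3) rel20_4) rel20_5) rel20_6) rel20_7) rel20_8) rel20_9) rel20_10) rel20_11) rel20_12) rel20_13) rel20_14) rel20_15)

theorem rel21 : data.relOK [4,2,4,2] 0 31671 = true :=
  (allRange_glue (allRange_glue (allRange_glue (allRange_glue (allRange_glue (allRange_glue (allRange_glue (allRange_glue (allRange_glue (allRange_glue rel21_0 rel21_1) rel21_2) rel21_3) rel21_4) rel21_5) rel21_6) rel21_7) rel21_8) rel21_9) rel21_10)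

theorem rel22 : data.relOK [5,2,5,2] 0 31671 = true :=
  (allRange_glue (allRange_glue (allRange_glue (allRange_glue (allRange_glue (allRange_glue (allRange_glue (allRange_glue (allRange_glue (allRange_glue rel22_0 rel22_1) rel22_2) rel22_3) rel22_4) rel22_5) rel22_6) rel22_7) rel22_8) rel22_9) rel22_10)

theorem rel23 : data.relOK [6,2,6,2] 0 31671 = true :=
  (allRange_glue (allRange_glue (allRange_glue (allRange_glue (allRange_glue (allRange_glue (allRange_glue (allRange_glue (allRange_glue (allRange_glue rel23_0 rel23_1) rel23_2) rel23_3) rel23_4) rel23_5) rel23_6) rel23_7) rel23_8) rel23_9) rel23_10)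

theorem rel24 : data.relOK [7,2,7,2] 0 31671 = true :=
  (allRange_glue (allRange_glue (allRange_glue (allRange_glue (allRange_glue (allRange_glue (allRange_glue (allRange_glue (allRange_glue (allRange_glue rel24_0 rel24_1) rel24_2) rel24_3) rel24_4) rel24_5) rel24_6) rel24_7) rel24_8) rel24_9) rel24_10)

theorem rel25 : data.relOK [8,2,8,2] 0 31671 = true :=
  (allRange_glue (allRange_glue (allRange_glue (allRange_glue (allRange_glue (allRange_glue (allRange_glue (allRange_glue (allRange_glue (allRange_glue rel25_0 rel25_1) rel25_2) rel25_3) rel25_4) rel25_5) rel25_6) rel25_7) rel25_8) rel25_9) rel25_10)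

theorem rel26 : data.relOK [9,2,9,2] 0 31671 = true :=
  (allRange_glue (allRange_glue (allRange_glue (allRange_glue (allRange_glue (allRange_glue (allRange_glue (allRange_glue (allRange_glue (allRange_glue rel26_0 rel26_1) rel26_2) rel26_3) rel26_4) rel26_5) rel26_6) rel26_7) rel26_8) rel26_9) rel26_10)

theorem rel27 : data.relOK [3,3] 0 31671 = true :=
  (allRange_glue (allRange_glue (allRange_glue (allRange_glue (allRange_glue rel27_0 rel27_1) rel27_2) rel27_3) rel27_4) rel27_5)

theorem rel28 : data.relOK [4,3,4,3,4,3] 0 31671 = true :=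
  (allRange_glue (allRange_glue (allRange_glue (allRange_glue (allRange_glue (allRange_glue (allRange_glue (allRange_glue (allRange_glue (allRange_glue (allRange_glue (allRange_glue (allRange_glue (allRange_glue (allRange_glue rel28_0 rel28_1) rel28_2) rel28_3) rel28_4) rel28_5) rel28_6) rel28_7) rel28_8) rel28_9) rel28_10) rel28_11) rel28_12) rel28_13) rel28_14) rel28_15)

theorem rel29 : data.relOK [5,3,5,3] 0 31671 = true :=
  (allRange_glue (allRange_glue (allRange_glue (allRange_glue (allRange_glue (allRange_glue (allRange_glue (allRange_glue (allRange_glue (allRange_glue rel29_0 rel29_1) rel29_2) rel29_3) rel29_4) rel29_5) rel29_6) rel29_7) rel29_8) rel29_9) rel29_10)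

theorem rel30 : data.relOK [6,3,6,3] 0 31671 = true :=
  (allRange_glue (allRange_glue (allRange_glue (allRange_glue (allRange_glue (allRange_glue (allRange_glue (allRange_glue (allRange_glue (allRange_glue rel30_0 rel30_1) rel30_2) rel30_3) rel30_4) rel30_5) rel30_6) rel30_7) rel30_8) rel30_9) rel30_10)

theorem rel31 : data.relOK [7,3,7,3] 0 31671 = true :=
  (allRange_glue (allRange_glue (allRange_glue (allRange_glue (allRange_glue (allRange_glue (allRange_glue (allRange_glue (allRange_glue (allRange_glue rel31_0 rel31_1) rel31_2) rel31_3) rel31_4) rel31_5) rel31_6) rel31_7) rel31_8) rel31_9) rel31_10)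

theorem rel32 : data.relOK [8,3,8,3,8,3] 0 31671 = true :=
  (allRange_glue (allRange_glue (allRange_glue (allRange_glue (allRange_glue (allRange_glue (allRange_glue (allRange_glue (allRange_glue (allRange_glue (allRange_glue (allRange_glue (allRange_glue (allRange_glue (allRange_glue rel32_0 rel32_1) rel32_2) rel32_3) rel32_4) rel32_5) rel32_6) rel32_7) rel32_8) rel32_9) rel32_10) rel32_11) rel32_12) rel32_13) rel32_14) rel32_15)

theorem rel33 : data.relOK [9,3,9,3] 0 31671 = true :=
  (allRange_glue (allRange_glue (allRange_glue (allRange_glue (allRange_glue (allRange_glue (allRange_glue (allRange_glue (allRange_glue (allRange_glue rel33_0 rel33_1) rel33_2) rel33_3) rel33_4) rel33_5) rel33_6) rel33_7) rel33_8) rel33_9) rel33_10)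

theorem rel34 : data.relOK [4,4] 0 31671 = true :=
  (allRange_glue (allRange_glue (allRange_glue (allRange_glue (allRange_glue rel34_0 rel34_1) rel34_2) rel34_3) rel34_4) rel34_5)

theorem rel35 : data.relOK [5,4,5,4,5,4] 0 31671 = true :=
  (allRange_glue (allRange_glue (allRange_glue (allRange_glue (allRange_glue (allRange_glue (allRange_glue (allRange_glue (allRange_glue (allRange_glue (allRange_glue (allRange_glue (allRange_glue (allRange_glue (allRange_glue rel35_0 rel35_1) rel35_2) rel35_3) rel35_4) rel35_5) rel35_6) rel35_7) rel35_8) rel35_9) rel35_10) rel35_11) rel35_12) rel35_13) rel35_14) rel35_15)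

theorem rel36 : data.relOK [6,4,6,4] 0 31671 = true :=
  (allRange_glue (allRange_glue (allRange_glue (allRange_glue (allRange_glue (allRange_glue (allRange_glue (allRange_glue (allRange_glue (allRange_glue rel36_0 rel36_1) rel36_2) rel36_3) rel36_4) rel36_5) rel36_6) rel36_7) rel36_8) rel36_9) rel36_10)

theorem rel37 : data.relOK [7,4,7,4] 0 31671 = true :=
  (allRange_glue (allRange_glue (allRange_glue (allRange_glue (allRange_glue (allRange_glue (allRange_glue (allRange_glue (allRange_glue (allRange_glue rel37_0 rel37_1) rel37_2) rel37_3) rel37_4) rel37_5) rel37_6) rel37_7) rel37_8) rel37_9) rel37_10)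

theorem rel38 : data.relOK [8,4,8,4] 0 31671 = true :=
  (allRange_glue (allRange_glue (allRange_glue (allRange_glue (allRange_glue (allRange_glue (allRange_glue (allRange_glue (allRange_glue (allRange_glue rel38_0 rel38_1) rel38_2) rel38_3) rel38_4) rel38_5) rel38_6) rel38_7) rel38_8) rel38_9) rel38_10)

theorem rel39 : data.relOK [9,4,9,4] 0 31671 = true :=
  (allRange_glue (allRange_glue (allRange_glue (allRange_glue (allRange_glue (allRange_glue (allRange_glue (allRange_glue (allRange_glue (allRange_glue rel39_0 rel39_1) rel39_2) rel39_3) rel39_4) rel39_5) rel39_6) rel39_7) rel39_8) rel39_9) rel39_10)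

theorem rel40 : data.relOK [5,5] 0 31671 = true :=
  (allRange_glue (allRange_glue (allRange_glue (allRange_glue (allRange_glue rel40_0 rel40_1) rel40_2) rel40_3) rel40_4) rel40_5)

theorem rel41 : data.relOK [6,5,6,5,6,5] 0 31671 = true :=
  (allRange_glue (allRange_glue (allRange_glue (allRange_glue (allRange_glue (allRange_glue (allRange_glue (allRange_glue (allRange_glue (allRange_glue (allRange_glue (allRange_glue (allRange_glue (allRange_glue (allRange_glue rel41_0 rel41_1) rel41_2) rel41_3) rel41_4) rel41_5) rel41_6) rel41_7) rel41_8) rel41_9) rel41_10) rel41_11) rel41_12) rel41_13) rel41_14) rel41_15)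

theorem rel42 : data.relOK [7,5,7,5] 0 31671 = true :=
  (allRange_glue (allRange_glue (allRange_glue (allRange_glue (allRange_glue (allRange_glue (allRange_glue (allRange_glue (allRange_glue (allRange_glue rel42_0 rel42_1) rel42_2) rel42_3) rel42_4) rel42_5) rel42_6) rel42_7) rel42_8) rel42_9) rel42_10)

theorem rel43 : data.relOK [8,5,8,5] 0 31671 = true :=
  (allRange_glue (allRange_glue (allRange_glue (allRange_glue (allRange_glue (allRange_glue (allRange_glue (allRange_glue (allRange_glue (allRange_glue rel43_0 rel43_1) rel43_2) rel43_3) rel43_4) rel43_5) rel43_6) rel43_7) rel43_8) rel43_9) rel43_10)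

theorem rel44 : data.relOK [9,5,9,5] 0 31671 = true :=
  (allRange_glue (allRange_glue (allRange_glue (allRange_glue (allRange_glue (allRange_glue (allRange_glue (allRange_glue (allRange_glue (allRange_glue rel44_0 rel44_1) rel44_2) rel44_3) rel44_4) rel44_5) rel44_6) rel44_7) rel44_8) rel44_9) rel44_10)

theorem rel45 : data.relOK [6,6] 0 31671 = true :=
  (allRange_glue (allRange_glue (allRange_glue (allRange_glue (allRange_glue rel45_0 rel45_1) rel45_2) rel45_3) rel45_4) rel45_5)

theorem rel46 : data.relOK [7,6,7,6,7,6] 0 31671 = true :=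
  (allRange_glue (allRange_glue (allRange_glue (allRange_glue (allRange_glue (allRange_glue (allRange_glue (allRange_glue (allRange_glue (allRange_glue (allRange_glue (allRange_glue (allRange_glue (allRange_glue (allRange_glue rel46_0 rel46_1) rel46_2) rel46_3) rel46_4) rel46_5) rel46_6) rel46_7) rel46_8) rel46_9) rel46_10) rel46_11) rel46_12) rel46_13) rel46_14) rel46_15)

theorem rel47 : data.relOK [8,6,8,6] 0 31671 = true :=
  (allRange_glue (allRange_glue (allRange_glue (allRange_glue (allRange_glue (allRange_glue (allRange_glue (allRange_glue (allRange_glue (allRange_glue rel47_0 rel47_1) rel47_2) rel47_3) rel47_4) rel47_5) rel47_6) rel47_7) rel47_8) rel47_9) rel47_10)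

theorem rel48 : data.relOK [9,6,9,6] 0 31671 = true :=
  (allRange_glue (allRange_glue (allRange_glue (allRange_glue (allRange_glue (allRange_glue (allRange_glue (allRange_glue (allRange_glue (allRange_glue rel48_0 rel48_1) rel48_2) rel48_3) rel48_4) rel48_5) rel48_6) rel48_7) rel48_8) rel48_9) rel48_10)

theorem rel49 : data.relOK [7,7] 0 31671 = true :=
  (allRange_glue (allRange_glue (allRange_glue (allRange_glue (allRange_glue rel49_0 rel49_1) rel49_2) rel49_3) rel49_4) rel49_5)

theorem rel50 : data.relOK [8,7,8,7] 0 31671 = true :=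
  (allRange_glue (allRange_glue (allRange_glue (allRange_glue (allRange_glue (allRange_glue (allRange_glue (allRange_glue (allRange_glue (allRange_glue rel50_0 rel50_1) rel50_2) rel50_3) rel50_4) rel50_5) rel50_6) rel50_7) rel50_8) rel50_9) rel50_10)

theorem rel51 : data.relOK [9,7,9,7] 0 31671 = true :=
  (allRange_glue (allRange_glue (allRange_glue (allRange_glue (allRange_glue (allRange_glue (allRange_glue (allRange_glue (allRange_glue (allRange_glue rel51_0 rel51_1) rel51_2) rel51_3) rel51_4) rel51_5) rel51_6) rel51_7) rel51_8) rel51_9) rel51_10)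

theorem rel52 : data.relOK [8,8] 0 31671 = true :=
  (allRange_glue (allRange_glue (allRange_glue (allRange_glue (allRange_glue rel52_0 rel52_1) rel52_2) rel52_3) rel52_4) rel52_5)

theorem rel53 : data.relOK [9,8,9,8,9,8] 0 31671 = true :=
  (allRange_glue (allRange_glue (allRange_glue (allRange_glue (allRange_glue (allRange_glue (allRange_glue (allRange_glue (allRange_glue (allRange_glue (allRange_glue (allRange_glue (allRange_glue (allRange_glue (allRange_glue rel53_0 rel53_1) rel53_2) rel53_3) rel53_4) rel53_5) rel53_6) rel53_7) rel53_8) rel53_9) rel53_10) rel53_11) rel53_12) rel53_13) rel53_14) rel53_15)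

theorem rel54 : data.relOK [9,9] 0 31671 = true :=
  (allRange_glue (allRange_glue (allRange_glue (allRange_glue (allRange_glue rel54_0 rel54_1) rel54_2) rel54_3) rel54_4) rel54_5)

theorem rel55 : data.powOK [9,8,3,5,4,3,1,2,3] 10 pw55 0 31671 = true :=
  (allRange_glue (allRange_glue (allRange_glue (allRange_glue (allRange_glue (allRange_glue (allRange_glue (allRange_glue (allRange_glue (allRange_glue (allRange_glue (allRange_glue (allRange_glue (allRange_glue (allRange_glue (allRange_glue (allRange_glue (allRange_glue (allRange_glue (allRange_glue (allRange_glue (allRange_glue (allRange_glue (allRange_glue (allRange_glue (allRange_glue (allRange_glue (allRange_glue (allRange_glue (allRange_glue (allRange_glue (allRange_glue (allRange_glue (allRange_glue (allRange_glue (allRange_glue (allRange_glue (allRange_glue (allRange_glue (allRange_glue (allRange_glue (allRange_glue (allRange_glue (allRange_glue (allRange_glue (allRange_glue (allRange_glue (allRange_glue (allRange_glue rel55_0 rel55_1) rel55_2) rel55_3) rel55_4) rel55_5) rel55_6) rel55_7) rel55_8) rel55_9)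 rel55_10) rel55_11) rel55_12) rel55_13) rel55_14) rel55_15) rel55_16) rel55_17) rel55_18) rel55_19) rel55_20) rel55_21) rel55_22) rel55_23) rel55_24) rel55_25) rel55_26) rel55_27) rel55_28) rel55_29) rel55_30) rel55_31) rel55_32) rel55_33) rel55_34) rel55_35) rel55_36) rel55_37) rel55_38) rel55_39) rel55_40) rel55_41) rel55_42) rel55_43) rel55_44) rel55_45) rel55_46) rel55_47) rel55_48) rel55_49)

theorem rel56 : data.powOK [8,5,4,3,2,1,0] 9 pw56 0 31671 = true :=
  (allRange_glue (allRange_glue (allRange_glue (allRange_glue (allRange_glue (allRange_glue (allRange_glue (allRange_glue (allRange_glue (allRange_glue (allRange_glue (allRange_glue (allRange_glue (allRange_glue (allRange_glue (allRange_glue (allRange_glue (allRange_glue (allRange_glue (allRange_glue (allRange_glue (allRange_glue (allRange_glue (allRange_glue (allRange_glue (allRange_glue (allRange_glue (allRange_glue (allRange_glue (allRange_glue (allRange_glue (allRange_glue (allRange_glue (allRange_glue (allRange_glue (allRange_glue (allRange_glue (allRange_glue (allRange_glue (allRange_glue (allRange_glue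 rel56_0 rel56_1) rel56_2) rel56_3) rel56_4) rel56_5) rel56_6) rel56_7) rel56_8) rel56_9) rel56_10) rel56_11) rel56_12) rel56_13) rel56_14) rel56_15) rel56_16) rel56_17) rel56_18) rel56_19) rel56_20) rel56_21) rel56_22) rel56_23) rel56_24) rel56_25) rel56_26) rel56_27) rel56_28) rel56_29) rel56_30) rel56_31) rel56_32) rel56_33) rel56_34) rel56_35) rel56_36) rel56_37) rel56_38) rel56_39) rel56_40) rel56_41)

theorem tables : Tables data where
  pos := by decide
  edges := edges_of_list fun g hg => by
    match g, hg with
    | 0, _ => exact edge0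
    | 1, _ => exact edge1
    | 2, _ => exact edge2
    | 3, _ => exact edge3
    | 4, _ => exact edge4
    | 5, _ => exact edge5
    | 6, _ => exact edge6
    | 7, _ => exact edge7
    | 8, _ => exact edge8
    | 9, _ => exact edge9
    | k + 10, h => exact absurd h (by show ¬ k + 10 < 10; omega)
  tree := treeRow
  letters := by decide +kernel
  subfix := by decide +kernel

theorem relFix : ∀ w ∈ data.words.take data.nrel, ∀ c < data.n, pathEnd data.T w c = c := by
  simp only [data, words, List.take_succ_cons, List.take_zero, List.forall_mem_cons, List.not_mem_nil, IsEmpty.forall_iff, implies_true, and_true]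
  exact ⟨fix_of_relOK (w := [0,0]) rel0,
    fix_of_relOK (w := [1,0,1,0,1,0]) rel1,
    fix_of_relOK (w := [2,0,2,0]) rel2,
    fix_of_relOK (w := [3,0,3,0]) rel3,
    fix_of_relOK (w := [4,0,4,0]) rel4,
    fix_of_relOK (w := [5,0,5,0]) rel5,
    fix_of_relOK (w := [6,0,6,0]) rel6,
    fix_of_relOK (w := [7,0,7,0]) rel7,
    fix_of_relOK (w := [8,0,8,0]) rel8,
    fix_of_relOK (w := [9,0,9,0]) rel9,
    fix_of_relOK (w := [1,1]) rel10,
    fix_of_relOK (w := [2,1,2,1,2,1]) rel11,
    fix_of_relOK (w := [3,1,3,1]) rel12,
    fix_of_relOK (w := [4,1,4,1]) rel13,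
    fix_of_relOK (w := [5,1,5,1]) rel14,
    fix_of_relOK (w := [6,1,6,1]) rel15,
    fix_of_relOK (w := [7,1,7,1]) rel16,
    fix_of_relOK (w := [8,1,8,1]) rel17,
    fix_of_relOK (w := [9,1,9,1]) rel18,
    fix_of_relOK (w := [2,2]) rel19,
    fix_of_relOK (w := [3,2,3,2,3,2]) rel20,
    fix_of_relOK (w := [4,2,4,2]) rel21,
    fix_of_relOK (w := [5,2,5,2]) rel22,
    fix_of_relOK (w := [6,2,6,2]) rel23,
    fix_of_relOK (w := [7,2,7,2]) rel24,
    fix_of_relOK (w := [8,2,8,2]) rel25,
    fix_of_relOK (w := [9,2,9,2]) rel26,
    fix_of_relOK (w := [3,3]) rel27,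
    fix_of_relOK (w := [4,3,4,3,4,3]) rel28,
    fix_of_relOK (w := [5,3,5,3]) rel29,
    fix_of_relOK (w := [6,3,6,3]) rel30,
    fix_of_relOK (w := [7,3,7,3]) rel31,
    fix_of_relOK (w := [8,3,8,3,8,3]) rel32,
    fix_of_relOK (w := [9,3,9,3]) rel33,
    fix_of_relOK (w := [4,4]) rel34,
    fix_of_relOK (w := [5,4,5,4,5,4]) rel35,
    fix_of_relOK (w := [6,4,6,4]) rel36,
    fix_of_relOK (w := [7,4,7,4]) rel37,
    fix_of_relOK (w := [8,4,8,4]) rel38,
    fix_of_relOK (w := [9,4,9,4]) rel39,
    fix_of_relOK (w := [5,5]) rel40,
    fix_of_relOK (w := [6,5,6,5,6,5]) rel41,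
    fix_of_relOK (w := [7,5,7,5]) rel42,
    fix_of_relOK (w := [8,5,8,5]) rel43,
    fix_of_relOK (w := [9,5,9,5]) rel44,
    fix_of_relOK (w := [6,6]) rel45,
    fix_of_relOK (w := [7,6,7,6,7,6]) rel46,
    fix_of_relOK (w := [8,6,8,6]) rel47,
    fix_of_relOK (w := [9,6,9,6]) rel48,
    fix_of_relOK (w := [7,7]) rel49,
    fix_of_relOK (w := [8,7,8,7]) rel50,
    fix_of_relOK (w := [9,7,9,7]) rel51,
    fix_of_relOK (w := [8,8]) rel52,
    fix_of_relOK (w := [9,8,9,8,9,8]) rel53,
    fix_of_relOK (w := [9,9]) rel54,
    fix_of_powOK tables (u := [9,8,3,5,4,3,1,2,3]) (k := 10) (W := pw55) rel55 (by decide),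
    fix_of_powOK tables (u := [8,5,4,3,2,1,0]) (k := 9) (W := pw56) rel56 (by decide)⟩

open Cfsg.Spor.Fi23 in
def gens : List Cfsg.Spor.Fi23.Gen := [.a, .b, .c, .d, .e, .f, .g, .j, .h, .i]

def ix : Cfsg.Spor.Fi23.Gen → ℕ
  | .a => 0
  | .b => 1
  | .c => 2
  | .d => 3
  | .e => 4
  | .f => 5
  | .g => 6
  | .j => 7
  | .h => 8
  | .i => 9

open Cfsg.Spor.Fi23 in
def sub : List (FreeGroup Cfsg.Spor.Fi23.Gen) := [a, b, c, d, e, f, g, h, i]

theorem fit : CoxFit data Cfsg.Spor.Fi23.edges Cfsg.Spor.Fi23.extra gens ix sub where
  tables := tables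
  ng := rfl
  ix_spec a := by cases a <;> rfl
  ix_gl := rfl
  nodes a := by cases a <;> decide
  relWords := by decide +kernel
  relFix := relFix
  relCover := by decide +kernel
  subWords := by decide +kernel

end

end Fi23Table
end H93
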