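import Mathlib
import Cfsg.Agent.H93.GroupOrder
import Cfsg.Agent.H93.CosetOrbit

/-!
Variants for large degree: chains below the point stabiliser, orbits given by trees.
-/

set_option autoImplicit false

namespace H93
namespace Coset

variable {D : Data} {G : Type*} [Group G] {gen : ℕ → G} {H : Subgroup G}

theorem Model.fixSub_zero (M : Model D gen H) : fixSub M.act [0] = H := by
  have h0 : cosetOf D gen H ⟨0, M.tables.pos⟩ = ((1 : G) : G ⧸ H) := Data.node_zero
  ext a
  constructor
  · intro ha
    have h1 := M.act_apply a ⟨0, M.tables.pos⟩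
    rw [ha ⟨0, M.tables.pos⟩ (by simp), h0,
      show a • ((1 : G) : G ⧸ H) = ((a * 1 : G) : G ⧸ H) from rfl, QuotientGroup.eq] at h1
    simpa using h1
  · intro ha c hc
    obtain rfl : c = ⟨0, M.tables.pos⟩ := Fin.ext (by simpa using hc)
    apply M.bijective.injective
    rw [M.act_apply, h0, show a • ((1 : G) : G ⧸ H) = ((a * 1 : G) : G ⧸ H) from rfl, QuotientGroup.eq]
    simpa using ha

/-- the order from a chain that starts at the stabiliser of the first node -/
theorem Model.order_eq_tail (M : Model D gen H) [Finite G] {ls : List Level} {N : ℕ}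
    (h : chainOK D [0] ls = true) (hN : D.n * chainProd ls = N) (hG : Nat.card G ≤ N) :
    Nat.card G = N ∧ H.normalCore = ⊥ := by
  have h1 := M.chain_bound_aux H.normalCore (fun _ ha => M.act_normalCore ha) ls [0] h
  rw [M.fixSub_zero] at h1
  have h4 : D.n * (chainProd ls * Nat.card H.normalCore) ≤ Nat.card G := by
    rw [← H.index_mul_card, M.index_eq]
    exact Nat.mul_le_mul le_rfl h1
  rw [← Nat.mul_assoc, hN] at h4
  have hp : 0 < N := lt_of_lt_of_le Nat.card_pos hG
  have h2 : 0 < Nat.card H.normalCore := Nat.card_pos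
  have h3 : N ≤ N * Nat.card H.normalCore := Nat.le_mul_of_pos_right N h2
  refine ⟨by omega, Subgroup.card_eq_one.mp (le_antisymm ?_ h2)⟩
  exact Nat.le_of_mul_le_mul_left (show N * Nat.card H.normalCore ≤ N * 1 by omega) hp

/-- simplicity from orbit certificates given as (mask, first node, certificate) -/
theorem Model.simple_of_orbit_masks (M : Model D gen H) [Finite G] (hcore : H.normalCore = ⊥)
    (orbs : List (ℕ × ℕ × ℕ))
    (hok : ∀ o ∈ orbs, ∃ hq : o.2.1 < D.n,
      MulAction.orbit H (cosetOf D gen H ⟨o.2.1, hq⟩) =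
          cosetOf D gen H '' {c | Nat.testBit o.1 c = true} ∧
        (MulAction.orbit H (cosetOf D gen H ⟨o.2.1, hq⟩)).ncard = o.2.2)
    (hzero : ∀ o ∈ orbs, Nat.testBit o.1 0 = false)
    (hdis : orbs.Pairwise fun a b => a.1 &&& b.1 = 0)
    (hn : 1 < D.n) (hsum : (orbs.map fun o => o.2.2).sum + 1 = D.n)
    (harith : ∀ s ∈ subsums (orbs.map fun o => o.2.2), (s + 1) ∣ D.n → s = 0 ∨ s + 1 = D.n)
    (w : G) {k h : ℕ} (hG : Nat.card G = D.n * h) (hk : w ^ k = 1) (hco : Nat.Coprime k h)
    (hcollapse : ∀ N : Subgroup G, N.Normal → w ∈ N → N = ⊤) : IsSimpleGroup G := by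
  have hcard : Nat.card (G ⧸ H) = D.n := M.index_eq
  classical
  let qf : ℕ × ℕ × ℕ → G ⧸ H := fun o =>
    if hq : o.2.1 < D.n then cosetOf D gen H ⟨o.2.1, hq⟩ else ((1 : G) : G ⧸ H)
  have hor : ∀ o ∈ orbs, MulAction.orbit H (qf o) =
        cosetOf D gen H '' {c | Nat.testBit o.1 c = true} ∧
      (MulAction.orbit H (qf o)).ncard = o.2.2 := by
    intro o ho
    obtain ⟨hq, h1, h2⟩ := hok o ho
    simp only [qf, dif_pos hq]
    exact ⟨h1, h2⟩
  refine simple_of_orbits (H := H) hn hcard hcore (orbs.map qf)
    (orbs.map fun o => o.2.2) ?_ hsum ?_ ?_ harith w hG hk hco hcollapse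
  · rw [List.map_map]
    exact List.map_congr_left fun o ho => (hor o ho).2
  · rw [List.map_map, List.pairwise_map]
    refine hdis.imp_of_mem fun {a b} ha hb hab => ?_
    simp only [Function.comp_apply, (hor a ha).1, (hor b hb).1]
    rw [Set.disjoint_image_iff M.bijective.injective, Set.disjoint_left]
    intro c hca hcb
    have := congrArg (fun m => Nat.testBit m c) hab
    simp only [Set.mem_ofPred_eq] at hca hcb
    simp [hca, hcb] at this
  · intro q hq hmem
    obtain ⟨o, ho, rfl⟩ := List.mem_map.mp hq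
    rw [(hor o ho).1] at hmem
    obtain ⟨c, hc, he⟩ := hmem
    have h0 : cosetOf D gen H ⟨0, M.tables.pos⟩ = ((1 : G) : G ⧸ H) := Data.node_zero
    rw [← h0] at he
    obtain rfl := M.bijective.injective he
    simp [hzero o ho] at hc

/-- the points of a chain, added to some points -/
def chainPts : List ℕ → List Level → List ℕ
  | pts, [] => pts
  | pts, L :: ls => chainPts (L.1 :: pts) ls

theorem Model.chain_bound_last (M : Model D gen H) [Finite G] :
    ∀ (ls : List Level) (pts : List ℕ), chainOK D pts ls = true →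
      chainProd ls * Nat.card (fixSub M.act (chainPts pts ls)) ≤ Nat.card (fixSub M.act pts) := by
  intro ls
  induction ls with
  | nil => intro pts _; simp [chainProd, chainPts]
  | cons L ls ih =>
    intro pts h
    simp only [chainOK, Bool.and_eq_true] at h
    calc chainProd (L :: ls) * Nat.card (fixSub M.act (chainPts pts (L :: ls))) =
          (L.2.2.length + 1) * (chainProd ls * Nat.card (fixSub M.act (chainPts (L.1 :: pts) ls))) := by
          simp [chainProd, chainPts, Nat.mul_assoc]
      _ ≤ (L.2.2.length + 1) * Nat.card (fixSub M.act (L.1 :: pts)) :=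
          Nat.mul_le_mul le_rfl (ih _ h.2)
      _ ≤ Nat.card (fixSub M.act pts) := M.chain_step h.1

/-- once the chain reaches the order, a word fixing its points is trivial -/
theorem Model.eq_one_of_fix_base (M : Model D gen H) [Finite G] {ls : List Level}
    (h : chainOK D [0] ls = true) (hG : Nat.card G = D.n * chainProd ls) {w : List ℕ}
    (hw : ∀ g ∈ w, g < D.ng)
    (hfix : ∀ p ∈ chainPts [0] ls, pathEnd D.T w p = p) : ev gen w = 1 := by
  have h1 := M.chain_bound_last ls [0] h
  rw [M.fixSub_zero] at h1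
  have h2 : Nat.card H = chainProd ls := by
    have := H.index_mul_card
    rw [M.index_eq, hG] at this
    exact Nat.eq_of_mul_eq_mul_left M.tables.pos this
  have hp : 0 < chainProd ls := h2 ▸ Nat.card_pos
  have h3 : fixSub M.act (chainPts [0] ls) = ⊥ := by
    refine Subgroup.card_eq_one.mp (le_antisymm ?_ Nat.card_pos)
    exact Nat.le_of_mul_le_mul_left (show _ ≤ chainProd ls * 1 by omega) hp
  have hmem : ev gen w ∈ fixSub M.act (chainPts [0] ls) := fun c hc =>
    Fin.ext ((M.act_ev w hw c).trans (hfix c hc))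
  rwa [h3, Subgroup.mem_bot] at hmem

end Coset
end H93
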