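import Mathlib
import Cfsg.Agent.H93.Fi22BTable.P0
import Cfsg.Agent.H93.Fi22BTable.P1
import Cfsg.Agent.H93.Fi22BTable.P2
import Cfsg.Agent.H93.Fi22BTable.P3
import Cfsg.Agent.H93.Fi22BTable.P4

/-!
A checked coset table (generated data).
-/

set_option autoImplicit false
set_option maxRecDepth 100000
set_option linter.all false
set_option Elab.async false

namespace H93
namespace Fi22BTable

open Coset

noncomputable section

attribute [local irreducible] allRange Data.edgeOK

theorem edge0 : data.edgesOK 0 0 14080 = true :=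
  (allRange_glue (allRange_glue (allRange_glue (allRange_glue (allRange_glue (allRange_glue (allRange_glue (allRange_glue edge0_0 edge0_1) edge0_2) edge0_3) edge0_4) edge0_5) edge0_6) edge0_7) edge0_8)

theorem edge1 : data.edgesOK 1 0 14080 = true :=
  (allRange_glue (allRange_glue (allRange_glue (allRange_glue (allRange_glue (allRange_glue (allRange_glue (allRange_glue edge1_0 edge1_1) edge1_2) edge1_3) edge1_4) edge1_5) edge1_6) edge1_7) edge1_8)

theorem edge2 : data.edgesOK 2 0 14080 = true :=
  (allRange_glue (allRange_glue (allRange_glue (allRange_glue (allRange_glue (allRange_glue (allRange_glue (allRange_glue edge2_0 edge2_1) edge2_2) edge2_3) edge2_4) edge2_5) edge2_6) edge2_7) edge2_8)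

theorem edge3 : data.edgesOK 3 0 14080 = true :=
  (allRange_glue (allRange_glue (allRange_glue (allRange_glue (allRange_glue (allRange_glue (allRange_glue (allRange_glue edge3_0 edge3_1) edge3_2) edge3_3) edge3_4) edge3_5) edge3_6) edge3_7) edge3_8)

theorem edge4 : data.edgesOK 4 0 14080 = true :=
  (allRange_glue (allRange_glue (allRange_glue (allRange_glue (allRange_glue (allRange_glue (allRange_glue (allRange_glue edge4_0 edge4_1) edge4_2) edge4_3) edge4_4) edge4_5) edge4_6) edge4_7) edge4_8)

theorem edge5 : data.edgesOK 5 0 14080 = true :=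
  (allRange_glue (allRange_glue (allRange_glue (allRange_glue (allRange_glue (allRange_glue (allRange_glue (allRange_glue edge5_0 edge5_1) edge5_2) edge5_3) edge5_4) edge5_5) edge5_6) edge5_7) edge5_8)

theorem edge6 : data.edgesOK 6 0 14080 = true :=
  (allRange_glue (allRange_glue (allRange_glue (allRange_glue (allRange_glue (allRange_glue (allRange_glue (allRange_glue edge6_0 edge6_1) edge6_2) edge6_3) edge6_4) edge6_5) edge6_6) edge6_7) edge6_8)

theorem edge7 : data.edgesOK 7 0 14080 = true :=
  (allRange_glue (allRange_glue (allRange_glue (allRange_glue (allRange_glue (allRange_glue (allRange_glue (allRange_glue edge7_0 edge7_1) edge7_2) edge7_3) edge7_4) edge7_5) edge7_6) edge7_7) edge7_8)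

theorem edge8 : data.edgesOK 8 0 14080 = true :=
  (allRange_glue (allRange_glue (allRange_glue (allRange_glue (allRange_glue (allRange_glue (allRange_glue (allRange_glue edge8_0 edge8_1) edge8_2) edge8_3) edge8_4) edge8_5) edge8_6) edge8_7) edge8_8)

theorem treeRow : treeOK data 0 14080 = true :=
  (allRange_glue treeRow_0 treeRow_1)

theorem rel1 : data.relOK [1,0,1,0,1,0] 0 14080 = true :=
  (allRange_glue (allRange_glue rel1_0 rel1_1) rel1_2)

theorem rel2 : data.relOK [2,0,2,0] 0 14080 = true :=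
  (allRange_glue rel2_0 rel2_1)

theorem rel3 : data.relOK [3,0,3,0] 0 14080 = true :=
  (allRange_glue rel3_0 rel3_1)

theorem rel4 : data.relOK [4,0,4,0] 0 14080 = true :=
  (allRange_glue rel4_0 rel4_1)

theorem rel5 : data.relOK [5,0,5,0] 0 14080 = true :=
  (allRange_glue rel5_0 rel5_1)

theorem rel6 : data.relOK [6,0,6,0] 0 14080 = true :=
  (allRange_glue rel6_0 rel6_1)

theorem rel7 : data.relOK [7,0,7,0] 0 14080 = true :=
  (allRange_glue rel7_0 rel7_1)

theorem rel8 : data.relOK [8,0,8,0] 0 14080 = true :=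
  (allRange_glue rel8_0 rel8_1)

theorem rel10 : data.relOK [2,1,2,1,2,1] 0 14080 = true :=
  (allRange_glue (allRange_glue rel10_0 rel10_1) rel10_2)

theorem rel11 : data.relOK [3,1,3,1] 0 14080 = true :=
  (allRange_glue rel11_0 rel11_1)

theorem rel12 : data.relOK [4,1,4,1] 0 14080 = true :=
  (allRange_glue rel12_0 rel12_1)

theorem rel13 : data.relOK [5,1,5,1] 0 14080 = true :=
  (allRange_glue rel13_0 rel13_1)

theorem rel14 : data.relOK [6,1,6,1] 0 14080 = true :=
  (allRange_glue rel14_0 rel14_1)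

theorem rel15 : data.relOK [7,1,7,1] 0 14080 = true :=
  (allRange_glue rel15_0 rel15_1)

theorem rel16 : data.relOK [8,1,8,1] 0 14080 = true :=
  (allRange_glue rel16_0 rel16_1)

theorem rel18 : data.relOK [3,2,3,2,3,2] 0 14080 = true :=
  (allRange_glue (allRange_glue rel18_0 rel18_1) rel18_2)

theorem rel19 : data.relOK [4,2,4,2] 0 14080 = true :=
  (allRange_glue rel19_0 rel19_1)

theorem rel20 : data.relOK [5,2,5,2] 0 14080 = true :=
  (allRange_glue rel20_0 rel20_1)

theorem rel21 : data.relOK [6,2,6,2] 0 14080 = true :=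
  (allRange_glue rel21_0 rel21_1)

theorem rel22 : data.relOK [7,2,7,2] 0 14080 = true :=
  (allRange_glue rel22_0 rel22_1)

theorem rel23 : data.relOK [8,2,8,2] 0 14080 = true :=
  (allRange_glue rel23_0 rel23_1)

theorem rel25 : data.relOK [4,3,4,3,4,3] 0 14080 = true :=
  (allRange_glue (allRange_glue rel25_0 rel25_1) rel25_2)

theorem rel26 : data.relOK [5,3,5,3] 0 14080 = true :=
  (allRange_glue rel26_0 rel26_1)

theorem rel27 : data.relOK [6,3,6,3] 0 14080 = true :=
  (allRange_glue rel27_0 rel27_1)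

theorem rel28 : data.relOK [7,3,7,3,7,3] 0 14080 = true :=
  (allRange_glue (allRange_glue rel28_0 rel28_1) rel28_2)

theorem rel29 : data.relOK [8,3,8,3] 0 14080 = true :=
  (allRange_glue rel29_0 rel29_1)

theorem rel31 : data.relOK [5,4,5,4,5,4] 0 14080 = true :=
  (allRange_glue (allRange_glue rel31_0 rel31_1) rel31_2)

theorem rel32 : data.relOK [6,4,6,4] 0 14080 = true :=
  (allRange_glue rel32_0 rel32_1)

theorem rel33 : data.relOK [7,4,7,4] 0 14080 = true :=
  (allRange_glue rel33_0 rel33_1)

theorem rel34 : data.relOK [8,4,8,4] 0 14080 = true :=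
  (allRange_glue rel34_0 rel34_1)

theorem rel36 : data.relOK [6,5,6,5,6,5] 0 14080 = true :=
  (allRange_glue (allRange_glue rel36_0 rel36_1) rel36_2)

theorem rel37 : data.relOK [7,5,7,5] 0 14080 = true :=
  (allRange_glue rel37_0 rel37_1)

theorem rel38 : data.relOK [8,5,8,5] 0 14080 = true :=
  (allRange_glue rel38_0 rel38_1)

theorem rel40 : data.relOK [7,6,7,6] 0 14080 = true :=
  (allRange_glue rel40_0 rel40_1)

theorem rel41 : data.relOK [8,6,8,6] 0 14080 = true :=
  (allRange_glue rel41_0 rel41_1)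

theorem rel43 : data.relOK [8,7,8,7,8,7] 0 14080 = true :=
  (allRange_glue (allRange_glue rel43_0 rel43_1) rel43_2)

theorem rel45 : data.powOK [8,7,3,5,4,3,1,2,3] 10 pw45 0 14080 = true :=
  (allRange_glue (allRange_glue (allRange_glue (allRange_glue (allRange_glue (allRange_glue (allRange_glue (allRange_glue (allRange_glue rel45_0 rel45_1) rel45_2) rel45_3) rel45_4) rel45_5) rel45_6) rel45_7) rel45_8) rel45_9)

theorem rel46 : data.powOK [7,5,4,3,2,1,0] 9 pw46 0 14080 = true :=
  (allRange_glue (allRange_glue (allRange_glue (allRange_glue (allRange_glue (allRange_glue (allRange_glue rel46_0 rel46_1) rel46_2) rel46_3) rel46_4) rel46_5) rel46_6) rel46_7)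

theorem rel47 : data.powOK [7,6,5,4,3,2,1] 9 pw47 0 14080 = true :=
  (allRange_glue (allRange_glue (allRange_glue (allRange_glue (allRange_glue (allRange_glue (allRange_glue rel47_0 rel47_1) rel47_2) rel47_3) rel47_4) rel47_5) rel47_6) rel47_7)

theorem tables : Tables data where
  pos := by decide
  edges := edges_of_list fun g hg => by
    match g, hg with
    | 0, _ => exact edge0
    | 1, _ => exact edge1
    | 2, _ => exact edge2
    | 3, _ => exact edge3
    | 4, _ => exact edge4
    | 5, _ => exact edge5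
    | 6, _ => exact edge6
    | 7, _ => exact edge7
    | 8, _ => exact edge8
    | k + 9, h => exact absurd h (by show ¬ k + 9 < 9; omega)
  tree := treeRow
  letters := by decide +kernel
  subfix := by decide +kernel

theorem relFix : ∀ w ∈ data.words.take data.nrel, ∀ c < data.n, pathEnd data.T w c = c := by
  simp only [data, words, List.take_succ_cons, List.take_zero, List.forall_mem_cons, List.not_mem_nil, IsEmpty.forall_iff, implies_true, and_true]
  exact ⟨fix_of_relOK (w := [0,0]) rel0_0,
    fix_of_relOK (w := [1,0,1,0,1,0]) rel1,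
    fix_of_relOK (w := [2,0,2,0]) rel2,
    fix_of_relOK (w := [3,0,3,0]) rel3,
    fix_of_relOK (w := [4,0,4,0]) rel4,
    fix_of_relOK (w := [5,0,5,0]) rel5,
    fix_of_relOK (w := [6,0,6,0]) rel6,
    fix_of_relOK (w := [7,0,7,0]) rel7,
    fix_of_relOK (w := [8,0,8,0]) rel8,
    fix_of_relOK (w := [1,1]) rel9_0,
    fix_of_relOK (w := [2,1,2,1,2,1]) rel10,
    fix_of_relOK (w := [3,1,3,1]) rel11,
    fix_of_relOK (w := [4,1,4,1]) rel12,
    fix_of_relOK (w := [5,1,5,1]) rel13,
    fix_of_relOK (w := [6,1,6,1]) rel14,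
    fix_of_relOK (w := [7,1,7,1]) rel15,
    fix_of_relOK (w := [8,1,8,1]) rel16,
    fix_of_relOK (w := [2,2]) rel17_0,
    fix_of_relOK (w := [3,2,3,2,3,2]) rel18,
    fix_of_relOK (w := [4,2,4,2]) rel19,
    fix_of_relOK (w := [5,2,5,2]) rel20,
    fix_of_relOK (w := [6,2,6,2]) rel21,
    fix_of_relOK (w := [7,2,7,2]) rel22,
    fix_of_relOK (w := [8,2,8,2]) rel23,
    fix_of_relOK (w := [3,3]) rel24_0,
    fix_of_relOK (w := [4,3,4,3,4,3]) rel25,
    fix_of_relOK (w := [5,3,5,3]) rel26,
    fix_of_relOK (w := [6,3,6,3]) rel27,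
    fix_of_relOK (w := [7,3,7,3,7,3]) rel28,
    fix_of_relOK (w := [8,3,8,3]) rel29,
    fix_of_relOK (w := [4,4]) rel30_0,
    fix_of_relOK (w := [5,4,5,4,5,4]) rel31,
    fix_of_relOK (w := [6,4,6,4]) rel32,
    fix_of_relOK (w := [7,4,7,4]) rel33,
    fix_of_relOK (w := [8,4,8,4]) rel34,
    fix_of_relOK (w := [5,5]) rel35_0,
    fix_of_relOK (w := [6,5,6,5,6,5]) rel36,
    fix_of_relOK (w := [7,5,7,5]) rel37,
    fix_of_relOK (w := [8,5,8,5]) rel38,
    fix_of_relOK (w := [6,6]) rel39_0,
    fix_of_relOK (w := [7,6,7,6]) rel40,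
    fix_of_relOK (w := [8,6,8,6]) rel41,
    fix_of_relOK (w := [7,7]) rel42_0,
    fix_of_relOK (w := [8,7,8,7,8,7]) rel43,
    fix_of_relOK (w := [8,8]) rel44_0,
    fix_of_powOK tables (u := [8,7,3,5,4,3,1,2,3]) (k := 10) (W := pw45) rel45 (by decide),
    fix_of_powOK tables (u := [7,5,4,3,2,1,0]) (k := 9) (W := pw46) rel46 (by decide),
    fix_of_powOK tables (u := [7,6,5,4,3,2,1]) (k := 9) (W := pw47) rel47 (by decide)⟩

open Cfsg.Spor.Fi22 in
def gens : List Cfsg.Spor.Fi22.Gen := [.a, .b, .c, .d, .e, .f, .g, .h, .i]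

def ix : Cfsg.Spor.Fi22.Gen → ℕ
  | .a => 0
  | .b => 1
  | .c => 2
  | .d => 3
  | .e => 4
  | .f => 5
  | .g => 6
  | .h => 7
  | .i => 8

open Cfsg.Spor.Fi22 in
def sub : List (FreeGroup Cfsg.Spor.Fi22.Gen) := [b, c, d, e, f, g, h, i]

theorem fit : CoxFit data Cfsg.Spor.Fi22.edges Cfsg.Spor.Fi22.extra gens ix sub where
  tables := tables
  ng := rfl
  ix_spec a := by cases a <;> rfl
  ix_gl := rfl
  nodes a := by cases a <;> decide
  relWords := by decide +kernel
  relFix := relFix
  relCover := by decide +kernel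
  subWords := by decide +kernel

end

end Fi22BTable
end H93
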