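import Mathlib
import Cfsg.Agent.H93.ONHA.P0

/-!
A checked coset table (generated data).
-/

set_option autoImplicit false
set_option maxRecDepth 100000
set_option linter.all false
set_option Elab.async false

namespace H93
namespace ONHA

open Coset

noncomputable section

attribute [local irreducible] allRange Data.edgeOK Data.edgeFast

theorem edge0 : data.edgesFast 0 0 5586 = true :=
  (allRange_glue edge0_0 edge0_1)

theorem edge1 : data.edgesFast 1 0 5586 = true :=
  (allRange_glue edge1_0 edge1_1)

theorem edge2 : data.edgesFast 2 0 5586 = true :=
  (allRange_glue edge2_0 edge2_1)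

theorem edge3 : data.edgesFast 3 0 5586 = true :=
  (allRange_glue edge3_0 edge3_1)

theorem edge4 : data.edgesFast 4 0 5586 = true :=
  (allRange_glue edge4_0 edge4_1)

theorem edge5 : data.edgesFast 5 0 5586 = true :=
  (allRange_glue edge5_0 edge5_1)

theorem tables : Tables data where
  pos := by decide
  edges := edges_of_fast fun g hg => by
    match g, hg with
    | 0, _ => exact edge0
    | 1, _ => exact edge1
    | 2, _ => exact edge2
    | 3, _ => exact edge3
    | 4, _ => exact edge4
    | 5, _ => exact edge5
    | k + 6, h => exact absurd h (by show ¬ k + 6 < 6; omega)
  tree := treeRow_0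
  letters := by decide +kernel
  subfix := by decide +kernel

end

end ONHA
end H93
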