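import Mathlib
import Cfsg.Prelude.Def_Spor_ON
import Cfsg.Prelude.Def_Sporadic
import Cfsg.Agent.H93.GroupOrder2
import Cfsg.Agent.H93.CI.Orbits
import Cfsg.Agent.H93.ON.Fit
import Cfsg.Agent.H93.ON.Chain
import Cfsg.Agent.H93.ON.Orb.Check
import Cfsg.Agent.H93.ON.Orb.Count
import Cfsg.Agent.H93.ONHA
import Cfsg.Agent.H93.ONHB
import Cfsg.Agent.H93.ONHC
import Cfsg.Agent.H93.ONHD

/-!
The presented O'Nan group is simple of order 460815505920.
-/

set_option autoImplicit false

namespace H93
namespace ON

open CosetI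

theorem ev_coset {G : Type*} [Group G] (f : ℕ → G) (w : List ℕ) : Coset.ev f w = ev f w := by
  induction w with
  | nil => rfl
  | cons g w ih => rw [Coset.ev, ev, ih]

theorem ev_map {G : Type*} [Group G] (f : ℕ → G) (m : ℕ → ℕ) (w : List ℕ) :
    ev (fun k => f (m k)) w = ev f (w.map m) := by
  induction w with
  | nil => rfl
  | cons g w ih => rw [List.map_cons, ev, ev, ih]

/-- a relator, possibly reversed, in the letters of the involutions -/
noncomputable def known (m : ℕ → ℕ) (w : List ℕ) : Bool :=
  (w.map m).all (fun g => decide (g < 6)) &&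
    (relWords.contains (w.map m) || relWords.contains (w.map m).reverse)

theorem known_spec {m : ℕ → ℕ} {w : List ℕ} (h : known m w = true) :
    Coset.ev (fun k => gen (m k)) w = 1 := by
  simp only [known, Bool.and_eq_true, Bool.or_eq_true, List.all_eq_true, decide_eq_true_eq,
    List.contains_iff_mem] at h
  obtain ⟨hl, h⟩ := h
  rw [ev_coset, ev_map]
  rcases h with h | h
  · exact rel_eq_one h
  · have h1 := rel_eq_one h
    rwa [← ev_coset, Coset.ev_reverse gen (m := 6) (fun g hg => gen_sq hg) _ hl, inv_eq_one,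
      ev_coset] at h1

theorem step {D : Coset.Data} (ht : Coset.Tables D) (m : ℕ → ℕ) (hm : ∀ g < D.ng, m g < 6)
    (hr : (D.words.take D.nrel).all (known m) = true) {L : Subgroup Cfsg.Spor.ON} [Finite L]
    (hs : ∀ w ∈ D.words.drop D.nrel, Coset.ev (fun k => gen (m k)) w ∈ L) :
    Finite (Subgroup.closure ((fun k => gen (m k)) '' {g | g < D.ng})) ∧
      Nat.card (Subgroup.closure ((fun k => gen (m k)) '' {g | g < D.ng})) ≤ D.n * Nat.card L :=
  Coset.card_le_of_table ht (fun g hg => gen_sq (hm g hg))
    (fun w hw => known_spec (List.all_eq_true.mp hr w hw)) hs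

def mB : ℕ → ℕ := fun k => [0, 1, 2, 3, 5].getD k 0

theorem card_H_le : Finite H ∧ Nat.card H ≤ 3753792 := by
  obtain ⟨fc, hc⟩ := step ONHC.tables id (by decide) (by decide +kernel)
    (L := (⊥ : Subgroup Cfsg.Spor.ON)) (by
      have hnil : ONHC.data.words.drop ONHC.data.nrel = [] := by decide +kernel
      intro w hw; rw [hnil] at hw; simp at hw)
  haveI := fc
  obtain ⟨fb, hb⟩ := step ONHB.tables mB (by decide) (by decide +kernel)
    (L := Subgroup.closure ((fun k => gen (id k)) '' {g | g < ONHC.data.ng})) (by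
      intro w hw
      obtain ⟨k, hk, rfl, hm⟩ := (show ∀ w ∈ ONHB.data.words.drop ONHB.data.nrel,
        ∃ k < 3, w = [k] ∧ mB k = k by decide +kernel) w hw
      refine Subgroup.subset_closure ⟨k, hk, ?_⟩
      simp [Coset.ev, hm])
  haveI := fb
  obtain ⟨fa, ha⟩ := step ONHA.tables id (by decide) (by decide +kernel)
    (L := Subgroup.closure ((fun k => gen (mB k)) '' {g | g < ONHB.data.ng})) (by
      intro w hw
      obtain ⟨k, hk, rfl⟩ := (show ∀ w ∈ ONHA.data.words.drop ONHA.data.nrel,
        ∃ k < 5, w = [mB k] by decide +kernel) w hw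
      refine Subgroup.subset_closure ⟨k, hk, ?_⟩
      simp [Coset.ev])
  rw [Subgroup.card_bot] at hc
  refine ⟨fa, ha.trans ?_⟩
  calc ONHA.data.n * _ ≤ ONHA.data.n * (ONHB.data.n * (ONHC.data.n * 1)) :=
        Nat.mul_le_mul le_rfl (hb.trans (Nat.mul_le_mul le_rfl hc))
    _ ≤ 3753792 := by decide +kernel

theorem finite_ON : Finite Cfsg.Spor.ON := by
  haveI := card_H_le.1
  haveI : H.FiniteIndex := ⟨by rw [index_H]; decide⟩
  exact Nat.finite_of_card_ne_zero (by
    rw [← H.index_mul_card, index_H]
    exact Nat.mul_ne_zero (by decide) Nat.card_pos.ne')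

theorem card_le : Nat.card Cfsg.Spor.ON ≤ 460815505920 := by
  haveI := card_H_le.1
  rw [← H.index_mul_card, index_H]
  exact (Nat.mul_le_mul le_rfl card_H_le.2).trans (by decide)

theorem card_ON_and_core : Nat.card Cfsg.Spor.ON = 460815505920 ∧ H.normalCore = ⊥ := by
  haveI := finite_ON
  refine model.order_eq_tail Chain.ok ?_ card_le
  rw [Chain.prod_eq]
  rfl

/-- substitute g = d c b -/
def subst (w : List ℕ) : List ℕ :=
  w.flatMap fun g => if g = 6 then [1, 2, 3] else if g = 7 then [3, 2, 1] else [g]

/-- cancel adjacent equal letters -/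
def cancel : List ℕ → List ℕ
  | [] => []
  | g :: w =>
    match cancel w with
    | [] => [g]
    | a :: r => if a = g then r else g :: a :: r

theorem ev_cancel {G : Type*} [Group G] (f : ℕ → G) :
    ∀ w : List ℕ, (∀ g ∈ w, f g * f g = 1) → ev f (cancel w) = ev f w := by
  intro w
  induction w with
  | nil => intro _; rfl
  | cons g w ih =>
    intro h
    have e := ih fun a ha => h a (by simp [ha])
    simp only [cancel]
    rcases hc : cancel w with _ | ⟨a, r⟩
    · rw [hc] at e
      simp only [ev] at e ⊢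
      rw [← e]
    · rw [hc] at e
      by_cases hag : a = g
      · subst hag
        simp only [if_pos]
        rw [ev, ← e, ev, mul_assoc, h a (by simp), mul_one]
      · simp only [if_neg hag, ev] at e ⊢
        rw [← e]

theorem collapse (N : Subgroup Cfsg.Spor.ON) [N.Normal] (h : ev gen [6, 3, 2, 1] ∈ N) : N = ⊤ := by
  haveI := finite_ON
  let q := QuotientGroup.mk' N
  let f : ℕ → Cfsg.Spor.ON ⧸ N := fun k => q (gen k)
  have hev : ∀ w, ev f w = q (ev gen w) := by
    intro w
    induction w with
    | nil => simp [ev]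
    | cons g w ih => simp [ev, ih, f]
  have hsq : ∀ k < 6, f k * f k = 1 := fun k hk => by
    show q (gen k) * q (gen k) = 1
    rw [← map_mul, gen_sq hk, map_one]
  have hinvf : ∀ k < 6, (f k)⁻¹ = f k := fun k hk => inv_eq_of_mul_eq_one_right (hsq k hk)
  have h0 : f 1 * f 2 * f 3 * f 6 = 1 := by
    have : q (ev gen [6, 3, 2, 1]) = 1 := (QuotientGroup.eq_one_iff _).mpr h
    rw [← hev] at this
    simpa [ev] using this
  have h6 : f 6 = ev f [1, 2, 3] := by
    rw [eq_inv_of_mul_eq_one_right h0, mul_inv_rev, mul_inv_rev, hinvf 1 (by decide),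
      hinvf 2 (by decide), hinvf 3 (by decide)]
    simp [ev, mul_assoc]
  have h7 : f 7 = ev f [3, 2, 1] := by
    have e : f 7 = (f 6)⁻¹ := map_inv q (gen 6)
    rw [e, h6]
    simp [ev, mul_inv_rev, hinvf 1 (by decide), hinvf 2 (by decide), hinvf 3 (by decide), mul_assoc]
  have hsubst : ∀ w, ev f (subst w) = ev f w := by
    intro w
    induction w with
    | nil => rfl
    | cons g w ih =>
      show ev f ((if g = 6 then [1, 2, 3] else if g = 7 then [3, 2, 1] else [g]) ++ subst w) = _
      rw [ev_append, ih]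
      conv_rhs => rw [ev]
      congr 1
      split
      · subst g; exact h6.symm
      · split
        · subst g; exact h7.symm
        · simp [ev]
  have hrel : ∀ w ∈ relWords, ev f (cancel (subst w)) = 1 := fun w hw => by
    rw [ev_cancel f, hsubst, hev, rel_eq_one hw, map_one]
    intro g hg
    refine hsq g ?_
    have hall : ∀ w ∈ relWords, ∀ g ∈ subst w, g < 6 := by decide +kernel
    exact hall w hw g hg
  obtain ⟨hfin, hle⟩ := Coset.card_le_of_table (gen := f) ONHD.tables
    (fun g hg => hsq g hg)
    (fun w hw => by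
      have hmem : ∀ w ∈ ONHD.data.words.take ONHD.data.nrel, (∀ g ∈ w, g < 6) ∧
          ((w ∈ relWords ∨ w.reverse ∈ relWords) ∨ w ∈ relWords.map (fun v => cancel (subst v)) ∨
            w.reverse ∈ relWords.map (fun v => cancel (subst v))) := by decide +kernel
      obtain ⟨hl, hw⟩ := hmem w hw
      rw [ev_coset]
      rcases hw with (hw | hw) | hw | hw
      · rw [hev, rel_eq_one hw, map_one]
      · have h1 : ev f w.reverse = 1 := by rw [hev, rel_eq_one hw, map_one]
        rwa [← ev_coset, Coset.ev_reverse f (m := 6) hsq _ hl, inv_eq_one, ev_coset] at h1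
      · obtain ⟨v, hv, rfl⟩ := List.mem_map.mp hw
        exact hrel v hv
      · obtain ⟨v, hv, hv'⟩ := List.mem_map.mp hw
        have h1 := hrel v hv
        rwa [hv', ← ev_coset, Coset.ev_reverse f (m := 6) hsq _ hl, inv_eq_one, ev_coset] at h1)
    (L := ⊥) (fun w hw => by
      have hnil : ONHD.data.words.drop ONHD.data.nrel = [] := by decide +kernel
      rw [hnil] at hw
      simp at hw)
  have hle1 : Nat.card (Subgroup.closure (f '' {g | g < ONHD.data.ng})) ≤ 1 := by
    refine hle.trans ?_
    rw [Subgroup.card_bot]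
    decide +kernel
  haveI := hfin
  have hbot : ∀ k < 6, f k = 1 := fun k hk =>
    Subgroup.mem_bot.mp (Subgroup.card_eq_one.mp (le_antisymm hle1 Nat.card_pos) ▸
      Subgroup.subset_closure ⟨k, hk, rfl⟩)
  refine eq_top_iff.mpr fun x _ => ?_
  rw [← QuotientGroup.eq_one_iff]
  have htop : Subgroup.closure (gen '' {g | g < Tab.data.ng}) = ⊤ := model.generates
  have hmem : x ∈ Subgroup.closure (gen '' {g | g < Tab.data.ng}) := htop ▸ Subgroup.mem_top x
  have hker : Subgroup.closure (gen '' {g | g < Tab.data.ng}) ≤ q.ker := by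
    refine (Subgroup.closure_le _).mpr ?_
    rintro _ ⟨k, hk, rfl⟩
    show f k = 1
    have hk8 : k < 8 := hk
    rcases lt_or_ge k 6 with hk6 | hk6
    · exact hbot k hk6
    · interval_cases k
      · rw [h6]; simp [ev, hbot]
      · rw [h7]; simp [ev, hbot]
  exact hker hmem

theorem isON : Cfsg.IsON Cfsg.Spor.ON := by
  haveI := finite_ON
  obtain ⟨hcard, hcore⟩ := card_ON_and_core
  refine ⟨?_, hcard⟩
  refine model.simple_of_orbit_table hcore Orb.nodes (by decide) rfl
    [(1, 1, 58653), (2, 10, 52136), (3, 15, 5586), (4, 32, 6384)] (by decide +kernel) ?_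
    (by decide) (by decide) (by decide +kernel) (by decide +kernel) (ev gen [6, 3, 2, 1]) (r := 5)
    (h := 3753792) (by rw [hcard]; rfl) ?_ (by decide +kernel) (fun N hN h => @collapse N hN h)
  · intro o ho
    simp only [List.mem_cons, List.not_mem_nil, or_false] at ho
    rcases ho with rfl | rfl | rfl | rfl
    · exact Orb.count1
    · exact Orb.count2
    · exact Orb.count3
    · exact Orb.count4
  · rw [← ev_expand]
    exact rel_eq_one (by decide +kernel)

end ON
end H93
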