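import Mathlib
import Cfsg.Agent.H93.SuzLG.P0

/-!
A checked coset table (generated data).
-/

set_option autoImplicit false
set_option maxRecDepth 100000
set_option linter.all false
set_option Elab.async false

namespace H93
namespace SuzLG

open Coset

noncomputable section

attribute [local irreducible] allRange Data.edgeOK Data.edgeFast

theorem tables : Tables data where
  pos := by decide
  edges := edges_of_fast fun g hg => by
    match g, hg with
    | 0, _ => exact edge0_0
    | 1, _ => exact edge1_0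
    | 2, _ => exact edge2_0
    | 3, _ => exact edge3_0
    | 4, _ => exact edge4_0
    | 5, _ => exact edge5_0
    | 6, _ => exact edge6_0
    | k + 7, h => exact absurd h (by show ¬ k + 7 < 7; omega)
  tree := treeRow_0
  letters := by decide +kernel
  subfix := by decide +kernel

theorem relFix : ∀ w ∈ data.words.take data.nrel, ∀ c < data.n, pathEnd data.T w c = c := by
  simp only [data, words, List.take_succ_cons, List.take_zero, List.forall_mem_cons, List.not_mem_nil, IsEmpty.forall_iff, implies_true, and_true]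
  exact ⟨fix_of_relOK (w := [0,0]) rel0_0,
    fix_of_relOK (w := [1,0,1,0,1,0,1,0,1,0]) rel1_0,
    fix_of_relOK (w := [2,0,2,0]) rel2_0,
    fix_of_relOK (w := [3,0,3,0]) rel3_0,
    fix_of_relOK (w := [4,0,4,0]) rel4_0,
    fix_of_relOK (w := [5,0,5,0]) rel5_0,
    fix_of_relOK (w := [6,0,6,0]) rel6_0,
    fix_of_relOK (w := [1,1]) rel7_0,
    fix_of_relOK (w := [2,1,2,1,2,1]) rel8_0,
    fix_of_relOK (w := [3,1,3,1]) rel9_0,
    fix_of_relOK (w := [4,1,4,1]) rel10_0,
    fix_of_relOK (w := [5,1,5,1,5,1]) rel11_0,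
    fix_of_relOK (w := [6,1,6,1,6,1]) rel12_0,
    fix_of_relOK (w := [2,2]) rel13_0,
    fix_of_powOK tables (u := [3,2]) (k := 8) (W := pw14) rel14_0 (by decide),
    fix_of_relOK (w := [4,2,4,2]) rel15_0,
    fix_of_relOK (w := [5,2,5,2]) rel16_0,
    fix_of_relOK (w := [6,2,6,2]) rel17_0,
    fix_of_relOK (w := [3,3]) rel18_0,
    fix_of_relOK (w := [4,3,4,3,4,3]) rel19_0,
    fix_of_relOK (w := [5,3,5,3]) rel20_0,
    fix_of_relOK (w := [6,3,6,3]) rel21_0,
    fix_of_relOK (w := [4,4]) rel22_0,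
    fix_of_relOK (w := [5,4,5,4]) rel23_0,
    fix_of_relOK (w := [6,4,6,4]) rel24_0,
    fix_of_relOK (w := [5,5]) rel25_0,
    fix_of_relOK (w := [6,5,6,5,6,5,6,5]) rel26_0,
    fix_of_relOK (w := [6,6]) rel27_0,
    fix_of_relOK (w := [2,3,2,3,2,3,2,3,0]) rel28_0,
    fix_of_relOK (w := [5,6,5,6,0]) rel29_0,
    fix_of_powOK tables (u := [5,2,1,0]) (k := 5) (W := pw30) rel30_0 (by decide),
    fix_of_powOK tables (u := [6,5,1]) (k := 5) (W := pw31) rel31_0 (by decide),
    fix_of_powOK tables (u := [4,3,2,3,2,1,3,2,3,2,1,3,2,3,2,1,3,2,3,2,1,3,2,3,2,1]) (k := 3) (W := pw32) rel32_0 (by decide)⟩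

open Cfsg.Spor.Suz in
def gens : List Cfsg.Spor.Suz.Gen := [.a, .b, .c, .d, .e, .f, .g]

def ix : Cfsg.Spor.Suz.Gen → ℕ
  | .a => 0
  | .b => 1
  | .c => 2
  | .d => 3
  | .e => 4
  | .f => 5
  | .g => 6

open Cfsg.Spor.Suz in
def sub : List (FreeGroup Cfsg.Spor.Suz.Gen) := [a, b, c, d, e, f]

theorem fit : CoxFit data Cfsg.Spor.Suz.edges Cfsg.Spor.Suz.extra gens ix sub where
  tables := tables
  ng := rfl
  ix_spec a := by cases a <;> rfl
  ix_gl := rfl
  nodes a := by cases a <;> decide
  relWords := by decide +kernel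
  relFix := relFix
  relCover := by decide +kernel
  subWords := by decide +kernel

end

end SuzLG
end H93
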