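import Mathlib
import Cfsg.Prelude.Def_Spor_Suz
import Cfsg.Prelude.Def_Sporadic
import Cfsg.Agent.H93.GroupOrder
import Cfsg.Agent.H93.SuzLC
import Cfsg.Agent.H93.SuzLD
import Cfsg.Agent.H93.SuzLE
import Cfsg.Agent.H93.SuzLF
import Cfsg.Agent.H93.SuzLG
import Cfsg.Agent.H93.SuzLGChain
import Cfsg.Agent.H93.SuzLGOrb

/-!
The presented Suzuki group is simple of order 448345497600.
-/

set_option autoImplicit false

namespace H93
namespace SuzOrder

open Coset

noncomputable abbrev gen : ℕ → Cfsg.Spor.Suz :=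
  coxGen Cfsg.Spor.Suz.edges Cfsg.Spor.Suz.extra SuzLG.gens

theorem gen_rel {w : List ℕ} (h : w ∈ SuzLG.data.words.take SuzLG.data.nrel) : ev gen w = 1 :=
  SuzLG.fit.model.rels w h

/-- the subgroup generated by the first `k` generators -/
noncomputable abbrev K (k : ℕ) : Subgroup Cfsg.Spor.Suz := Subgroup.closure (gen '' {g | g < k})

theorem letter_mem {k g : ℕ} (h : g < k) : ev gen [g] ∈ K k := by
  have h1 : gen g ∈ K k := Subgroup.subset_closure ⟨g, h, rfl⟩
  simpa [ev] using h1

theorem step (D : Data) (ht : Tables D) (hng : D.ng ≤ 7)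
    (hr : ∀ w ∈ D.words.take D.nrel, w ∈ SuzLG.data.words.take SuzLG.data.nrel)
    {k N : ℕ} (hs : D.words.drop D.nrel = (List.range k).map fun g => [g])
    (hfin : Finite (K k) ∧ Nat.card (K k) ≤ N) :
    Finite (K D.ng) ∧ Nat.card (K D.ng) ≤ D.n * N := by
  haveI := hfin.1
  obtain ⟨h1, h2⟩ := card_le_of_table ht
    (fun g hg => SuzLG.fit.model.inv g (lt_of_lt_of_le hg hng))
    (fun w hw => gen_rel (hr w hw)) (L := K k) (by
      intro w hw
      rw [hs, List.mem_map] at hw
      obtain ⟨g, hg, rfl⟩ := hw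
      exact letter_mem (List.mem_range.mp hg))
  exact ⟨h1, h2.trans (Nat.mul_le_mul le_rfl hfin.2)⟩

theorem card_le : Finite Cfsg.Spor.Suz ∧ Nat.card Cfsg.Spor.Suz ≤ 448345497600 := by
  have h0 : Finite (K 0) ∧ Nat.card (K 0) ≤ 1 := by
    have hb : K 0 = ⊥ := by simp [K]
    rw [hb]
    exact ⟨inferInstance, le_of_eq Subgroup.card_bot⟩
  have h4 := step SuzLD.data SuzLD.tables (by decide) (by decide +kernel) (k := 0) (by decide +kernel) h0
  have h5 := step SuzLE.data SuzLE.tables (by decide) (by decide +kernel) (k := 4) (by decide +kernel) h4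
  have h6 := step SuzLF.data SuzLF.tables (by decide) (by decide +kernel) (k := 5) (by decide +kernel) h5
  have h7 := step SuzLG.data SuzLG.tables (by decide) (by decide +kernel) (k := 6) (by decide +kernel) h6
  have htop : K 7 = ⊤ := SuzLG.fit.model.generates
  have h7' : Finite (K 7) ∧ Nat.card (K 7) ≤ 448345497600 := h7
  rw [htop, Subgroup.card_top] at h7'
  haveI := h7'.1
  exact ⟨Finite.of_equiv _ Subgroup.topEquiv.toEquiv, h7'.2⟩

theorem collapse (N : Subgroup Cfsg.Spor.Suz) [N.Normal] (h : ev gen [6, 5, 4, 3, 2, 1] ∈ N) : N = ⊤ := by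
  let q := QuotientGroup.mk' N
  have hev : ∀ w, ev (fun g => q (gen g)) w = q (ev gen w) := by
    intro w
    induction w with
    | nil => simp [ev]
    | cons g w ih => simp [ev, ih]
  obtain ⟨hfin, hle⟩ := card_le_of_table (gen := fun g => q (gen g)) SuzLC.tables
    (fun g hg => by rw [← map_mul, SuzLG.fit.model.inv g hg, map_one])
    (fun w hw => by
      rw [hev]
      have hmem : ∀ w ∈ SuzLC.data.words.take SuzLC.data.nrel,
          w ∈ SuzLG.data.words.take SuzLG.data.nrel ∨ w = [6, 5, 4, 3, 2, 1] := by decide +kernel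
      rcases hmem w hw with h1 | h1
      · rw [gen_rel h1, map_one]
      · subst h1; exact (QuotientGroup.eq_one_iff _).mpr h)
    (L := ⊥) (fun w hw => by
      have hnil : SuzLC.data.words.drop SuzLC.data.nrel = [] := by decide +kernel
      rw [hnil] at hw
      simp at hw)
  have htop : Subgroup.closure ((fun g => q (gen g)) '' {g | g < 7}) = ⊤ := by
    rw [show (fun g => q (gen g)) '' {g | g < 7} = q '' (gen '' {g | g < 7}) from (Set.image_image _ _ _).symm,
      ← MonoidHom.map_closure, show Subgroup.closure (gen '' {g | g < 7}) = ⊤ from SuzLG.fit.model.generates,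
      ← MonoidHom.range_eq_map]
    exact MonoidHom.range_eq_top.mpr (QuotientGroup.mk'_surjective N)
  have hle' : Nat.card (Subgroup.closure ((fun g => q (gen g)) '' {g | g < 7})) ≤ 1 := by
    refine hle.trans ?_
    rw [Subgroup.card_bot]
    decide
  have hfin' : Finite (Subgroup.closure ((fun g => q (gen g)) '' {g | g < 7})) := hfin
  rw [htop] at hfin'
  haveI : Finite (Cfsg.Spor.Suz ⧸ N) := Finite.of_equiv _ Subgroup.topEquiv.toEquiv
  rw [htop, Subgroup.card_top] at hle'
  haveI : Subsingleton (Cfsg.Spor.Suz ⧸ N) := Finite.card_le_one_iff_subsingleton.mp hle'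
  exact QuotientGroup.subgroup_eq_top_of_subsingleton N inferInstance

theorem isSuz : Cfsg.IsSuz Cfsg.Spor.Suz := by
  haveI := card_le.1
  have M := SuzLG.fit.model
  obtain ⟨hcard, hcore⟩ := M.order_eq SuzLGChain.ok SuzLGChain.prod_eq card_le.2
  refine ⟨?_, hcard⟩
  refine M.simple_of_masks hcore
    [(SuzLGOrb.mask1, 44, SuzLGOrb.ls1), (SuzLGOrb.mask2, 1, SuzLGOrb.ls2)] ?_ ?_ ?_
    (by decide) (by decide +kernel) (by decide +kernel) (ev gen [6, 5, 4, 3, 2, 1]) (k := 11)
    (h := 251596800) (by rw [hcard]; decide +kernel) ?_ (by decide +kernel)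
    (fun N hN h => @collapse N hN h)
  · intro o ho
    simp only [List.mem_cons, List.not_mem_nil, or_false] at ho
    rcases ho with rfl | rfl
    · exact SuzLGOrb.orbit1
    · exact SuzLGOrb.orbit2
  · decide +kernel
  · decide +kernel
  · rw [← ev_expand]
    exact M.eq_one_of_fix hcore (by decide +kernel)
      (fix_of_relOK (w := expand ([6, 5, 4, 3, 2, 1], 11)) (by decide +kernel))

end SuzOrder
end H93
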